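import Cfsg.Agent.Lib.Char.Quotient
import Cfsg.Agent.Lib.Char.Kernel
import Cfsg.Agent.Lib.Char.Det
import Cfsg.Agent.Lib.Grp.Basic

/-!
Groups of symplectic type with derived and central subgroup of order two: the faithful character
and the commutator pairing.
-/

set_option autoImplicit false

namespace Cfsg.Agent.SympExt

open Cfsg
open Cfsg.Agent.Char
open scoped commutatorElement ComplexConjugate

universe u

variable {G : Type u} [Group G]

/-- `E` has centre `{1, z}` and all its commutators lie there. -/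
structure Sym (E : Subgroup G) (z : G) : Prop where
  mem : z ∈ E
  ne_one : z ≠ 1
  sq : z * z = 1
  central : ∀ a ∈ E, a * z = z * a
  comm : ∀ a ∈ E, ∀ b ∈ E, ⁅a, b⁆ = 1 ∨ ⁅a, b⁆ = z
  center : ∀ a ∈ E, (∀ b ∈ E, a * b = b * a) → a = 1 ∨ a = z

variable {E : Subgroup G} {z : G}

theorem Sym.inv_z (h : Sym E z) : z⁻¹ = z := inv_eq_of_mul_eq_one_right h.sq

theorem Sym.orderOf_z (h : Sym E z) : orderOf z = 2 :=
  orderOf_eq_prime (by rw [pow_two]; exact h.sq) h.ne_one

theorem Sym.conj_cases (h : Sym E z) {a b : G} (ha : a ∈ E) (hb : b ∈ E) :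
    a * b * a⁻¹ = b ∨ a * b * a⁻¹ = z * b := by
  have e : a * b * a⁻¹ = ⁅a, b⁆ * b := by rw [commutatorElement_def]; group
  rcases h.comm a ha b hb with h1 | h1
  · exact Or.inl (by rw [e, h1, one_mul])
  · exact Or.inr (by rw [e, h1])

theorem Sym.sq_cases (h : Sym E z) {a : G} (ha : a ∈ E) : a * a = 1 ∨ a * a = z := by
  refine h.center _ (E.mul_mem ha ha) fun b hb => ?_
  rcases h.conj_cases ha hb with h1 | h1
  · have h2 : a * b = b * a := mul_inv_eq_iff_eq_mul.mp h1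
    rw [mul_assoc, h2, ← mul_assoc, h2, mul_assoc]
  · have h2 : a * b = z * b * a := mul_inv_eq_iff_eq_mul.mp h1
    calc a * a * b = a * (z * b * a) := by rw [mul_assoc, h2]
      _ = (a * z) * (b * a) := by simp only [mul_assoc]
      _ = (z * a) * (b * a) := by rw [h.central a ha]
      _ = z * (a * b) * a := by simp only [mul_assoc]
      _ = z * (z * b * a) * a := by rw [h2]
      _ = (z * z) * b * (a * a) := by simp only [mul_assoc]
      _ = b * (a * a) := by rw [h.sq, one_mul]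

theorem Sym.pow_four (h : Sym E z) {a : G} (ha : a ∈ E) : a ^ 4 = 1 := by
  have e : a ^ 4 = (a * a) * (a * a) := by simp only [pow_succ, pow_zero, one_mul, mul_assoc]
  rcases h.sq_cases ha with h1 | h1 <;> rw [e, h1]
  · rw [mul_one]
  · exact h.sq

theorem Sym.isPGroup (h : Sym E z) : IsPGroup 2 ↥E := fun a =>
  ⟨2, Subtype.ext (by rw [Subgroup.coe_pow]; exact h.pow_four a.2)⟩

theorem Sym.mem_zpowers (h : Sym E z) {x : G} : x ∈ Subgroup.zpowers z ↔ x = 1 ∨ x = z := by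
  constructor
  · intro hx
    obtain ⟨k, rfl⟩ := Subgroup.mem_zpowers_iff.mp hx
    rcases Int.even_or_odd k with ⟨m, rfl⟩ | ⟨m, rfl⟩
    · left
      rw [← two_mul, zpow_mul, zpow_two, h.sq, one_zpow]
    · right
      rw [zpow_add, zpow_mul, zpow_two, h.sq, one_zpow, one_mul, zpow_one]
  · rintro (e | e) <;> rw [e]
    · exact Subgroup.one_mem _
    · exact Subgroup.mem_zpowers z

theorem Sym.card_zpowers (h : Sym E z) : Nat.card ↥(Subgroup.zpowers z) = 2 := by
  rw [Nat.card_zpowers, h.orderOf_z]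

theorem Sym.zpowers_le (h : Sym E z) : Subgroup.zpowers z ≤ E := Subgroup.zpowers_le.mpr h.mem

/-- A subgroup containing `z` with centre `{1, z}`. -/
theorem Sym.mono (h : Sym E z) {M : Subgroup G} (hME : M ≤ E) (hz : z ∈ M)
    (hc : ∀ a ∈ M, (∀ b ∈ M, a * b = b * a) → a = 1 ∨ a = z) : Sym M z where
  mem := hz
  ne_one := h.ne_one
  sq := h.sq
  central a ha := h.central a (hME ha)
  comm a ha b hb := h.comm a (hME ha) b (hME hb)
  center := hc

theorem Sym.comm_mul_left (h : Sym E z) {a b c : G} (ha : a ∈ E) (hb : b ∈ E) (hc : c ∈ E) :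
    ⁅a * b, c⁆ = ⁅a, c⁆ * ⁅b, c⁆ := by
  have e : ⁅a * b, c⁆ = a * ⁅b, c⁆ * a⁻¹ * ⁅a, c⁆ := by
    simp only [commutatorElement_def]; group
  rw [e]
  rcases h.comm b hb c hc with h1 | h1 <;> rw [h1]
  · simp
  · rw [h.central a ha, mul_assoc z, mul_inv_cancel, mul_one]
    rcases h.comm a ha c hc with h2 | h2 <;> rw [h2]
    simp

theorem Sym.comm_mul_right (h : Sym E z) {a b c : G} (ha : a ∈ E) (hb : b ∈ E) (hc : c ∈ E) :
    ⁅a, b * c⁆ = ⁅a, b⁆ * ⁅a, c⁆ := by
  have e : ⁅a, b * c⁆ = ⁅a, b⁆ * (b * ⁅a, c⁆ * b⁻¹) := by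
    simp only [commutatorElement_def]; group
  rw [e]
  rcases h.comm a ha c hc with h1 | h1 <;> rw [h1]
  · simp
  · rw [h.central b hb, mul_assoc z, mul_inv_cancel, mul_one]

/-- The sign of a commutator. -/
noncomputable def sign2 (c : G) : ℂˣ := by classical exact if c = 1 then 1 else -1

theorem sign2_one : sign2 (1 : G) = 1 := by classical simp [sign2]

theorem sign2_eq_one_iff {c : G} : sign2 c = 1 ↔ c = 1 := by
  classical
  unfold sign2
  split_ifs with h
  · simp [h]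
  · simp only [h, iff_false]
    intro e
    have := congrArg Units.val e
    norm_num at this

theorem Sym.sign2_mul (h : Sym E z) {c c' : G} (hc : c = 1 ∨ c = z) (hc' : c' = 1 ∨ c' = z) :
    sign2 (c * c') = sign2 c * sign2 c' := by
  classical
  rcases hc with rfl | rfl <;> rcases hc' with rfl | rfl <;> simp [sign2, h.ne_one, h.sq]

/-- The commutator pairing bounds the index of one centraliser by that of the other. -/
theorem Sym.pairing_le [Finite G] (h : Sym E z) {X Y : Subgroup G} (hX : X ≤ E) (hY : Y ≤ E) :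
    Nat.card X * Nat.card ↥(Y ⊓ Subgroup.centralizer (X : Set G)) ≤
      Nat.card Y * Nat.card ↥(X ⊓ Subgroup.centralizer (Y : Set G)) := by
  classical
  set Y' : Subgroup Y := (Y ⊓ Subgroup.centralizer (X : Set G)).subgroupOf Y with hY'def
  have memY' : ∀ y : Y, y ∈ Y' ↔ ∀ x ∈ X, x * (y : G) = y * x := fun y => by
    rw [hY'def, Subgroup.mem_subgroupOf, Subgroup.mem_inf, Subgroup.mem_centralizer_iff]
    exact ⟨fun hy => hy.2, fun hy => ⟨y.2, hy⟩⟩
  haveI hn : Y'.Normal := ⟨fun n hn g => by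
    rw [memY'] at hn ⊢
    intro x hx
    rw [Subgroup.coe_mul, Subgroup.coe_mul, Subgroup.coe_inv]
    rcases h.conj_cases (hY g.2) (hY n.2) with h1 | h1 <;> rw [h1]
    · exact hn x hx
    · rw [← mul_assoc, h.central x (hX hx), mul_assoc, hn x hx, ← mul_assoc]⟩
  let Q := ↥Y ⧸ Y'
  let val : X → Y →* ℂˣ := fun x =>
    { toFun := fun y => sign2 ⁅(x : G), (y : G)⁆
      map_one' := by rw [Subgroup.coe_one, commutatorElement_one_right, sign2_one]
      map_mul' := fun y y' => by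
        rw [Subgroup.coe_mul, h.comm_mul_right (hX x.2) (hY y.2) (hY y'.2)]
        exact h.sign2_mul (h.comm _ (hX x.2) _ (hY y.2)) (h.comm _ (hX x.2) _ (hY y'.2)) }
  have hker : ∀ x : X, Y' ≤ (val x).ker := fun x y hy => by
    rw [MonoidHom.mem_ker]
    exact sign2_eq_one_iff.mpr (commutatorElement_eq_one_iff_mul_comm.mpr ((memY' y).mp hy x x.2))
  let Φ : X →* (Q →* ℂˣ) :=
    { toFun := fun x => QuotientGroup.lift Y' (val x) (hker x)
      map_one' := MonoidHom.ext fun q => QuotientGroup.induction_on q fun y => by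
        rw [QuotientGroup.lift_mk, MonoidHom.one_apply]
        exact sign2_eq_one_iff.mpr (by rw [Subgroup.coe_one, commutatorElement_one_left])
      map_mul' := fun x x' => MonoidHom.ext fun q => QuotientGroup.induction_on q fun y => by
        rw [MonoidHom.mul_apply, QuotientGroup.lift_mk, QuotientGroup.lift_mk, QuotientGroup.lift_mk]
        show sign2 _ = sign2 _ * sign2 _
        rw [Subgroup.coe_mul, h.comm_mul_left (hX x.2) (hX x'.2) (hY y.2)]
        exact h.sign2_mul (h.comm _ (hX x.2) _ (hY y.2)) (h.comm _ (hX x'.2) _ (hY y.2)) }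
  have hΦker : Φ.ker.map X.subtype = X ⊓ Subgroup.centralizer (Y : Set G) := by
    ext g
    rw [Subgroup.mem_map, Subgroup.mem_inf, Subgroup.mem_centralizer_iff]
    constructor
    · rintro ⟨x, hx, rfl⟩
      refine ⟨x.2, fun y hy => ?_⟩
      have h1 := DFunLike.congr_fun (MonoidHom.mem_ker.mp hx) ((⟨y, hy⟩ : Y) : Q)
      rw [MonoidHom.one_apply] at h1
      exact (commutatorElement_eq_one_iff_mul_comm.mp (sign2_eq_one_iff.mp h1)).symm
    · rintro ⟨hg, hgc⟩
      refine ⟨⟨g, hg⟩, MonoidHom.mem_ker.mpr (MonoidHom.ext fun q => QuotientGroup.induction_on q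
        fun y => ?_), rfl⟩
      exact sign2_eq_one_iff.mpr (commutatorElement_eq_one_iff_mul_comm.mpr (hgc y y.2).symm)
  haveI := Fintype.ofFinite Q
  have hbound : Finite (Q →* ℂˣ) ∧ Nat.card (Q →* ℂˣ) ≤ Nat.card Q := by
    let j : (Q →* ℂˣ) → (Q →* ℂ) := fun f => (Units.coeHom ℂ).comp f
    have hj : Function.Injective j := fun f g e => MonoidHom.ext fun q => Units.ext (DFunLike.congr_fun e q)
    have hli := (linearIndependent_monoidHom Q ℂ).comp j hj
    haveI : Finite (Q →* ℂˣ) := hli.finite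
    haveI := Fintype.ofFinite (Q →* ℂˣ)
    have := hli.fintype_card_le_finrank
    rw [Module.finrank_fintype_fun_eq_card, ← Nat.card_eq_fintype_card, ← Nat.card_eq_fintype_card] at this
    exact ⟨inferInstance, this⟩
  haveI := hbound.1
  have h1 : Nat.card X ≤ Nat.card Φ.ker * Nat.card Q := by
    rw [← Subgroup.card_mul_index Φ.ker]
    refine Nat.mul_le_mul_left _ ?_
    rw [Subgroup.index_ker]
    exact (Subgroup.card_le_card_group _).trans hbound.2
  have h2 : Nat.card Φ.ker = Nat.card ↥(X ⊓ Subgroup.centralizer (Y : Set G)) := by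
    rw [← hΦker, Subgroup.card_map_of_injective X.subtype_injective]
  have h3 : Nat.card Y' = Nat.card ↥(Y ⊓ Subgroup.centralizer (X : Set G)) :=
    Nat.card_congr (Subgroup.subgroupOfEquivOfLe inf_le_left).toEquiv
  have h4 : Nat.card Q * Nat.card Y' = Nat.card Y := (Subgroup.card_eq_card_quotient_mul_card_subgroup Y').symm
  rw [← h3, ← h2]
  calc Nat.card X * Nat.card Y' ≤ Nat.card Φ.ker * Nat.card Q * Nat.card Y' := Nat.mul_le_mul_right _ h1
    _ = Nat.card Y * Nat.card Φ.ker := by rw [mul_assoc, h4, mul_comm]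

theorem Sym.pairing [Finite G] (h : Sym E z) {X Y : Subgroup G} (hX : X ≤ E) (hY : Y ≤ E) :
    Nat.card X * Nat.card ↥(Y ⊓ Subgroup.centralizer (X : Set G)) =
      Nat.card Y * Nat.card ↥(X ⊓ Subgroup.centralizer (Y : Set G)) :=
  le_antisymm (h.pairing_le hX hY) (h.pairing_le hY hX)

theorem Sym.inf_centralizer_self (h : Sym E z) :
    E ⊓ Subgroup.centralizer (E : Set G) = Subgroup.zpowers z := by
  refine le_antisymm (fun a ha => h.mem_zpowers.mpr
    (h.center a ha.1 fun b hb => (Subgroup.mem_centralizer_iff.mp ha.2 b hb).symm)) ?_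
  rw [Subgroup.zpowers_le]
  exact ⟨h.mem, Subgroup.mem_centralizer_iff.mpr fun a ha => h.central a ha⟩

/-! ### Characters with `χ z = -χ 1` -/

variable [Finite G]

/-- An irreducible character not trivial on `z`. -/
def Faith (E : Subgroup G) (z : G) (χ : ↥E → ℂ) : Prop :=
  IsIrrCharacter ↥E χ ∧ ∀ x : ↥E, (x : G) = z → χ x = -χ 1

theorem neg_mul_of_char {K : Type u} [Group K] [Finite K] {χ : K → ℂ} (hχ : IsCharacter K χ)
    {w : K} (hw : w * w = 1) (hneg : χ w = -χ 1) (g : K) : χ (w * g) = -χ g := by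
  obtain ⟨n, ρ, rfl⟩ := hχ
  set P : Module.End ℂ (Fin n → ℂ) := (2 : ℂ)⁻¹ • (1 + ρ w) with hP
  have hid : P * P = P := by
    have h2 : ρ w * ρ w = 1 := by rw [← map_mul, hw, map_one]
    rw [hP, smul_mul_smul_comm, add_mul, mul_add, mul_add, one_mul, mul_one, one_mul, h2]
    module
  have htr : LinearMap.trace ℂ _ P = 0 := by
    have h1 : LinearMap.trace ℂ _ (1 : Module.End ℂ (Fin n → ℂ)) = ρ.character 1 := by
      rw [Representation.character, map_one ρ]
    have h2 : LinearMap.trace ℂ _ (ρ w) = -ρ.character 1 := hneg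
    rw [hP, map_smul, map_add, h1, h2, add_neg_cancel, smul_zero]
  have hP0 : P = 0 := by
    obtain ⟨p, hp⟩ := (LinearMap.isProj_iff_isIdempotentElem P).mpr hid
    have := hp.trace
    rw [htr] at this
    have hb : p = ⊥ := Submodule.finrank_eq_zero.mp (by exact_mod_cast this.symm)
    subst hb
    exact LinearMap.ext fun v => (Submodule.mem_bot ℂ).mp (hp.map_mem v)
  have hw' : ρ w = -1 := by
    rw [hP, smul_eq_zero] at hP0
    exact eq_neg_of_add_eq_zero_right (hP0.resolve_left (by norm_num))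
  show LinearMap.trace ℂ _ (ρ (w * g)) = -LinearMap.trace ℂ _ (ρ g)
  rw [map_mul, hw', ← map_neg]
  exact congrArg _ (neg_one_mul (ρ g))

open Classical in
/-- The values forced on a character with `χ z = -χ 1`. -/
theorem Sym.values (h : Sym E z) {χ : ↥E → ℂ} (hχ : IsCharacter ↥E χ)
    (hneg : ∀ x : ↥E, (x : G) = z → χ x = -χ 1) (x : ↥E) :
    χ x = if (x : G) = 1 then χ 1 else if (x : G) = z then -χ 1 else 0 := by
  split_ifs with h1 h2
  · rw [show x = 1 from Subtype.ext h1]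
  · exact hneg x h2
  · have hnc : ¬ ∀ b ∈ E, (x : G) * b = b * x := fun hb => (h.center x x.2 hb).elim h1 h2
    push Not at hnc
    obtain ⟨b, hb, hne⟩ := hnc
    have hc : b * (x : G) * b⁻¹ = z * x := (h.conj_cases hb x.2).resolve_left fun e =>
      hne (mul_inv_eq_iff_eq_mul.mp e).symm
    have e1 : (⟨b, hb⟩ : ↥E) * x * (⟨b, hb⟩ : ↥E)⁻¹ = ⟨z, h.mem⟩ * x := Subtype.ext hc
    have e2 := IsChar.classFun hχ x ⟨b, hb⟩
    rw [e1, neg_mul_of_char hχ (Subtype.ext h.sq) (hneg _ rfl)] at e2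
    linear_combination (-1 / 2 : ℂ) * e2

theorem Sym.norm_eq [Fintype ↥E] (h : Sym E z) {χ : ↥E → ℂ} (hχ : IsCharacter ↥E χ)
    (hneg : ∀ x : ↥E, (x : G) = z → χ x = -χ 1) {d : ℕ} (hd : χ 1 = d) :
    classInner χ χ = (Nat.card ↥E : ℂ)⁻¹ * ((2 * d ^ 2 : ℕ) : ℂ) := by
  classical
  rw [classInner]
  congr 1
  have hne : (1 : ↥E) ≠ ⟨z, h.mem⟩ := fun e => h.ne_one (congrArg Subtype.val e).symm
  rw [← Finset.sum_subset (Finset.subset_univ {(1 : ↥E), ⟨z, h.mem⟩}) ?_,
    Finset.sum_pair hne, hneg ⟨z, h.mem⟩ rfl, hd, map_neg, Complex.conj_natCast]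
  · push_cast; ring
  · intro x _ hx
    rw [Finset.mem_insert, Finset.mem_singleton, not_or] at hx
    rw [h.values hχ hneg x, if_neg (show (x : G) ≠ 1 from fun e => hx.1 (Subtype.ext e)),
      if_neg (show (x : G) ≠ z from fun e => hx.2 (Subtype.ext e)), zero_mul]

theorem Sym.faith_of_char (h : Sym E z) {χ : ↥E → ℂ} (hχ : IsCharacter ↥E χ)
    (hneg : ∀ x : ↥E, (x : G) = z → χ x = -χ 1) {d : ℕ} (hd : χ 1 = d)
    (hcard : 2 * d ^ 2 = Nat.card ↥E) : Faith E z χ := by
  haveI := Fintype.ofFinite ↥E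
  refine ⟨IsChar.irr_of_norm_one hχ ?_, hneg⟩
  rw [h.norm_eq hχ hneg hd, hcard, inv_mul_cancel₀ (Nat.cast_ne_zero.mpr Nat.card_pos.ne')]

theorem Sym.faith_degree (h : Sym E z) {χ : ↥E → ℂ} (hχ : Faith E z χ) :
    ∃ d : ℕ, χ 1 = d ∧ 2 * d ^ 2 = Nat.card ↥E := by
  haveI := Fintype.ofFinite ↥E
  obtain ⟨d, -, hd⟩ := IsIrr.one_eq_pos hχ.1
  refine ⟨d, hd, ?_⟩
  have h1 := h.norm_eq (IsIrr.isCharacter hχ.1) hχ.2 hd
  rw [classInner_self_irr hχ.1] at h1
  have h2 : ((2 * d ^ 2 : ℕ) : ℂ) = (Nat.card ↥E : ℂ) := by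
    have := congrArg (fun t => (Nat.card ↥E : ℂ) * t) h1
    simpa [← mul_assoc, mul_inv_cancel₀ (Nat.cast_ne_zero.mpr (Nat.card_pos (α := ↥E)).ne' :
      (Nat.card ↥E : ℂ) ≠ 0)] using this.symm
  exact_mod_cast h2

theorem Sym.faith_unique (h : Sym E z) {χ ψ : ↥E → ℂ} (hχ : Faith E z χ) (hψ : Faith E z ψ) :
    χ = ψ := by
  classical
  obtain ⟨d, hd, hd2⟩ := h.faith_degree hχ
  obtain ⟨e, he, he2⟩ := h.faith_degree hψ
  obtain rfl : d = e := by
    have : d ^ 2 = e ^ 2 := by omega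
    exact (Nat.pow_left_injective (by norm_num : 2 ≠ 0)) this
  funext x
  rw [h.values (IsIrr.isCharacter hχ.1) hχ.2, h.values (IsIrr.isCharacter hψ.1) hψ.2, hd, he]

theorem Sym.exists_faith (h : Sym E z) : ∃ χ : ↥E → ℂ, Faith E z χ := by
  haveI := Fintype.ofFinite ↥E
  set w : ↥E := ⟨z, h.mem⟩
  have hw : w ≠ 1 := fun e => h.ne_one (congrArg Subtype.val e)
  have hnc : ¬ IsConj w 1 := fun hc => hw (isConj_one_right.mp hc.symm)
  obtain ⟨ψ, hψ⟩ : ∃ ψ : IrrCharacter ↥E, (ψ : ↥E → ℂ) w ≠ (ψ : ↥E → ℂ) 1 := by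
    by_contra hall
    push Not at hall
    exact hnc ((isConj_iff_irr w 1).mpr hall)
  refine ⟨ψ.1, ψ.2, fun x hx => ?_⟩
  obtain rfl : x = w := Subtype.ext hx
  obtain ⟨c, -, hc⟩ := IsIrr.scalar_of_center ψ.2 (z := w) (Subgroup.mem_center_iff.mpr fun g =>
    Subtype.ext (show (g : G) * z = z * g from h.central g g.2))
  have h1 : (ψ : ↥E → ℂ) w = c * (ψ : ↥E → ℂ) 1 := by rw [← hc 1, mul_one]
  have h2 : (ψ : ↥E → ℂ) 1 = c * (ψ : ↥E → ℂ) w := by
    rw [← hc w, show w * w = 1 from Subtype.ext h.sq]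
  have h0 := IsIrr.one_ne_zero ψ.2
  have hc2 : c * c = 1 := by
    have e : c * c * (ψ : ↥E → ℂ) 1 = 1 * (ψ : ↥E → ℂ) 1 := by rw [one_mul, mul_assoc, ← h1, ← h2]
    exact mul_right_cancel₀ h0 e
  rcases mul_self_eq_one_iff.mp hc2 with rfl | rfl
  · exact absurd (h1.trans (one_mul _)) hψ
  · rw [h1, neg_one_mul]

end Cfsg.Agent.SympExt
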