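import Cfsg.Agent.Lib.Char.SympExt.Singular
import Cfsg.Agent.Lib.Grp.Frattini

/-!
The irreducible case: the centre and the whole group are the only invariant subgroups over the
centre, and the odd subgroup has no useful proper invariant subgroup. The centraliser of the
action modulo the kernel is trivial; then either a cyclic step or a product of two commuting
factors gives the extension.
-/

set_option autoImplicit false

namespace Cfsg.Agent.SympExt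

open Cfsg
open Cfsg.Agent.Char
open scoped commutatorElement

universe u

variable {G : Type u} [Group G] {E H K : Subgroup G} {z : G}

theorem le_normalizer_centralizer {A B : Subgroup G}
    (h : A ≤ Subgroup.normalizer (B : Set G)) :
    A ≤ Subgroup.normalizer (Subgroup.centralizer (B : Set G) : Set G) :=
  le_normalizer_of_conj fun a ha x hx => Subgroup.mem_centralizer_iff.mpr fun m hm => by
    have e := Subgroup.mem_centralizer_iff.mp hx _ (conj_mem_of_le_normalizer' h ha hm)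
    calc m * (a * x * a⁻¹) = a * (a⁻¹ * m * a * x) * a⁻¹ := by group
      _ = a * (x * (a⁻¹ * m * a)) * a⁻¹ := by rw [e]
      _ = a * x * a⁻¹ * m := by group

theorem conj_closure {S : Set G} {T : Subgroup G} {g : G} (h : ∀ x ∈ S, g * x * g⁻¹ ∈ T)
    {x : G} (hx : x ∈ Subgroup.closure S) : g * x * g⁻¹ ∈ T :=
  ((Subgroup.closure_le (T.comap (MulAut.conj g).toMonoidHom)).mpr fun y hy => h y hy) hx

theorem Hyp.conj_fix [Finite G] (hh : Hyp E H K z) {k e : G} (hk : k ∈ K)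
    (hw : k * e * k⁻¹ * e⁻¹ ∈ Subgroup.zpowers z) : k * e = e * k := by
  rcases hh.sym.mem_zpowers.mp hw with h | h
  · exact mul_inv_eq_iff_eq_mul.mp (mul_inv_eq_one.mp h)
  · have h' : k * e * k⁻¹ = z * e := mul_inv_eq_iff_eq_mul.mp h
    have hn : ∀ n : ℕ, k ^ n * e * (k ^ n)⁻¹ = z ^ n * e := by
      intro n
      induction n with
      | zero => simp
      | succ n ih =>
        rw [show k ^ (n + 1) * e * (k ^ (n + 1))⁻¹ = k * (k ^ n * e * (k ^ n)⁻¹) * k⁻¹ by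
          rw [pow_succ']; group, ih,
          show k * (z ^ n * e) * k⁻¹ = (k * z ^ n * k⁻¹) * (k * e * k⁻¹) by group, h',
          ((Commute.pow_right (hh.z_comm (hh.le hk)) n).eq), mul_inv_cancel_right, pow_succ, mul_assoc]
    have h1 := hn (Nat.card K)
    rw [show k ^ Nat.card K = 1 from
      orderOf_dvd_iff_pow_eq_one.mp (Subgroup.orderOf_dvd_natCard K hk)] at h1
    obtain ⟨m, hm⟩ := hh.odd
    rw [hm, pow_succ, pow_mul, pow_two, hh.sym.sq, one_pow, one_mul, one_mul, inv_one, mul_one,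
      right_eq_mul] at h1
    exact absurd h1 hh.sym.ne_one

variable [Finite G]

/-- Elements acting trivially on `K` modulo the kernel centralise `E`. -/
theorem centralizes_of_trivial_mod (hh : Hyp E H K z)
    (hmin : ∀ M : Subgroup G, Inv E H M → z ∈ M → (∀ a ∈ M, a = 1 ∨ a = z) ∨ M = E)
    (hnt : ∃ a ∈ E, a ≠ 1 ∧ a ≠ z) {P P0 : Subgroup G} (hP : P ≤ H) (hHeq : K ⊔ P = H)
    (hP0 : P0 ≤ P) (hP0n : P ≤ Subgroup.normalizer (P0 : Set G)) (hP02 : IsPGroup 2 P0)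
    (hmod : ∀ q ∈ P0, ∀ k ∈ K, ∀ e ∈ E, k⁻¹ * q * k * e * (k⁻¹ * q * k)⁻¹ = q * e * q⁻¹) :
    ∀ q ∈ P0, ∀ e ∈ E, q * e = e * q := by
  have hcomm : ∀ w ∈ Subgroup.zpowers z, ∀ x ∈ E ⊔ H, x * w * x⁻¹ = w := fun w hw x hx => by
    rcases hh.sym.mem_zpowers.mp hw with e | e <;> rw [e]
    · simp
    · rw [hh.sup_comm_z hx, mul_inv_cancel_right]
  have hP0H : P0 ≤ H := hP0.trans hP
  let M : (W : Subgroup G) → W ≤ Subgroup.zpowers z → Subgroup G := fun W hW =>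
    { carrier := {e | e ∈ E ∧ ∀ q ∈ P0, q * e * q⁻¹ * e⁻¹ ∈ W}
      one_mem' := ⟨E.one_mem, fun q hq => by simp⟩
      mul_mem' := fun {e f} he hf => ⟨E.mul_mem he.1 hf.1, fun q hq => by
        rw [show q * (e * f) * q⁻¹ * (e * f)⁻¹ =
          (q * e * q⁻¹ * e⁻¹) * (e * (q * f * q⁻¹ * f⁻¹) * e⁻¹) by group,
          hcomm _ (hW (hf.2 q hq)) e (Subgroup.mem_sup_left he.1)]
        exact W.mul_mem (he.2 q hq) (hf.2 q hq)⟩
      inv_mem' := fun {e} he => ⟨E.inv_mem he.1, fun q hq => by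
        rw [show q * e⁻¹ * q⁻¹ * (e⁻¹)⁻¹ = e⁻¹ * (q * e * q⁻¹ * e⁻¹)⁻¹ * (e⁻¹)⁻¹ by group,
          hcomm _ ((Subgroup.zpowers z).inv_mem (hW (he.2 q hq))) _
            (Subgroup.mem_sup_left (E.inv_mem he.1))]
        exact W.inv_mem (he.2 q hq)⟩ }
  have hMinv : ∀ W hW, Inv E H (M W hW) := fun W hW => by
    refine ⟨fun e he => he.1, ?_⟩
    have key : ∀ g ∈ H, (∀ q ∈ P0, ∀ e ∈ E,
        ∃ q' ∈ P0, g⁻¹ * q * g * e * (g⁻¹ * q * g)⁻¹ = q' * e * q'⁻¹) →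
        ∀ e ∈ M W hW, g * e * g⁻¹ ∈ M W hW := fun g hg hq e he =>
      ⟨conj_mem_of_le_normalizer hh.norm hg he.1, fun q hq0 => by
        obtain ⟨q', hq', hqe⟩ := hq q hq0 e he.1
        rw [show q * (g * e * g⁻¹) * q⁻¹ * (g * e * g⁻¹)⁻¹ =
          g * ((g⁻¹ * q * g * e * (g⁻¹ * q * g)⁻¹) * e⁻¹) * g⁻¹ by group, hqe,
          hcomm _ (hW (he.2 q' hq')) g (Subgroup.mem_sup_right hg)]
        exact he.2 q' hq'⟩
    rw [← hHeq]
    refine sup_le (le_normalizer_of_conj fun k hk e he => key k (hh.le hk)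
        (fun q hq e he => ⟨q, hq, hmod q hq k hk e he⟩) e he)
      (le_normalizer_of_conj fun r hr e he => key r (hP hr)
        (fun q hq e _ => ⟨_, conj_mem_of_le_normalizer' hP0n hr hq, rfl⟩) e he)
  have hzM : ∀ W hW, z ∈ M W hW := fun W hW => ⟨hh.sym.mem, fun q hq => by
    rw [hh.z_comm (hP0H hq), mul_inv_cancel_right, mul_inv_cancel]; exact W.one_mem⟩
  have hZle : Subgroup.zpowers z ≤ Subgroup.zpowers z := le_rfl
  -- a fixed point modulo the centre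
  have hfixed : ∃ e ∈ M (Subgroup.zpowers z) hZle, e ≠ 1 ∧ e ≠ z := by
    haveI : Fact (Nat.Prime 2) := ⟨Nat.prime_two⟩
    have hn : P0 ≤ Subgroup.normalizer (E : Set G) := hP0H.trans hh.norm
    obtain ⟨a, ha⟩ := hh.sym.two_pow
    obtain ⟨b, hb⟩ := IsPGroup.iff_card.mp hP02
    have hS : IsPGroup 2 ↥(E ⊔ P0) := IsPGroup.of_card (n := a + b) (by
      rw [card_sup hn (eq_bot_iff.mpr (hh.disj ▸ inf_le_inf_left E hP0H)), ha, hb, pow_add])
    haveI : Group.IsNilpotent ↥(E ⊔ P0) := hS.isNilpotent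
    have hSH : E ⊔ P0 ≤ E ⊔ H := sup_le_sup_left hP0H E
    let Zs : Subgroup ↥(E ⊔ P0) := (Subgroup.zpowers z).subgroupOf (E ⊔ P0)
    haveI : Zs.Normal := ⟨fun w hw g => by
      show ((g * w * g⁻¹ : ↥(E ⊔ P0)) : G) ∈ Subgroup.zpowers z
      rw [Subgroup.coe_mul, Subgroup.coe_mul, Subgroup.coe_inv, hcomm _ (show (w : G) ∈ Subgroup.zpowers z from hw) _ (hSH g.2)]
      exact hw⟩
    haveI : (E.subgroupOf (E ⊔ P0)).Normal := normal_subgroupOf_sup hn
    let π : ↥(E ⊔ P0) →* ↥(E ⊔ P0) ⧸ Zs := QuotientGroup.mk' Zs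
    let N := (E.subgroupOf (E ⊔ P0)).map π
    haveI : N.Normal := Subgroup.Normal.map inferInstance π (QuotientGroup.mk'_surjective Zs)
    obtain ⟨a', ha', h1, h2⟩ := hnt
    have hN : N ≠ ⊥ := fun h => by
      have hmem : π ⟨a', Subgroup.mem_sup_left ha'⟩ ∈ N := ⟨_, ha', rfl⟩
      rw [h, Subgroup.mem_bot] at hmem
      exact (hh.sym.mem_zpowers.mp ((QuotientGroup.eq_one_iff (N := Zs) _).mp hmem)).elim h1 h2
    haveI : Group.IsNilpotent (↥(E ⊔ P0) ⧸ Zs) := inferInstance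
    obtain ⟨v, hv, hv1⟩ := (Subgroup.bot_or_exists_ne_one _).resolve_left
      (Cfsg.Agent.Grp.inf_center_ne_bot N hN)
    obtain ⟨⟨e, he, rfl⟩, hvc⟩ := hv
    refine ⟨(e : G), ⟨he, fun q hq => ?_⟩, fun h => hv1 ?_, fun h => hv1 ?_⟩
    · have hc := Subgroup.mem_center_iff.mp hvc (π ⟨q, Subgroup.mem_sup_right hq⟩)
      have h3 : π (⟨q, Subgroup.mem_sup_right hq⟩ * e * ⟨q, Subgroup.mem_sup_right hq⟩⁻¹ * e⁻¹) = 1 := by
        rw [map_mul, map_mul, map_mul, map_inv, map_inv, hc, mul_inv_cancel_right, mul_inv_cancel]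
      exact (QuotientGroup.eq_one_iff (N := Zs) _).mp h3
    · exact (QuotientGroup.eq_one_iff (N := Zs) _).mpr
        (show (e : G) ∈ Subgroup.zpowers z by rw [h]; exact Subgroup.one_mem _)
    · exact (QuotientGroup.eq_one_iff (N := Zs) _).mpr
        (show (e : G) ∈ Subgroup.zpowers z by rw [h]; exact Subgroup.mem_zpowers z)
  have hall : M (Subgroup.zpowers z) hZle = E := (hmin _ (hMinv _ hZle) (hzM _ hZle)).resolve_left fun h => by
    obtain ⟨e, he, h1, h2⟩ := hfixed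
    exact (h e he).elim h1 h2
  have hall0 : M ⊥ bot_le = E := (hmin _ (hMinv ⊥ bot_le) (hzM ⊥ bot_le)).resolve_left fun h => by
    obtain ⟨a, ha, h1, h2⟩ := hnt
    refine (hh.fix a ha fun k hk => hh.conj_fix hk ?_).elim h1 h2
    refine hh.sym.mem_zpowers.mpr (h _ ⟨E.mul_mem (conj_mem_of_le_normalizer hh.norm (hh.le hk) ha)
      (E.inv_mem ha), fun q hq => ?_⟩)
    have hs : q * a * q⁻¹ * a⁻¹ ∈ Subgroup.zpowers z := ((hall ▸ ha : a ∈ M (Subgroup.zpowers z) hZle)).2 q hq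
    rw [Subgroup.mem_bot]
    set s := q * a * q⁻¹ * a⁻¹ with hsd
    have hq : q * (k * a * k⁻¹) * q⁻¹ = s * (k * a * k⁻¹) := by
      calc q * (k * a * k⁻¹) * q⁻¹ = k * (k⁻¹ * q * k * a * (k⁻¹ * q * k)⁻¹) * k⁻¹ := by group
        _ = k * (s * a) * k⁻¹ := by rw [hmod q hq k hk a ha, hsd, inv_mul_cancel_right]
        _ = (k * s * k⁻¹) * (k * a * k⁻¹) := by group
        _ = s * (k * a * k⁻¹) := by rw [hcomm _ hs k (Subgroup.mem_sup_right (hh.le hk))]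
    have hq' : q * a * q⁻¹ = s * a := by rw [hsd, inv_mul_cancel_right]
    have hw := conj_mem_of_le_normalizer hh.norm (hh.le hk) ha
    calc q * (k * a * k⁻¹ * a⁻¹) * q⁻¹ * (k * a * k⁻¹ * a⁻¹)⁻¹
        = (q * (k * a * k⁻¹) * q⁻¹) * (q * a * q⁻¹)⁻¹ * (k * a * k⁻¹ * a⁻¹)⁻¹ := by group
      _ = s * ((k * a * k⁻¹ * a⁻¹) * s⁻¹ * (k * a * k⁻¹ * a⁻¹)⁻¹) := by rw [hq, hq']; group
      _ = 1 := by
          rw [hcomm _ ((Subgroup.zpowers z).inv_mem hs) _
            (Subgroup.mem_sup_left (E.mul_mem hw (E.inv_mem ha))), mul_inv_cancel]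
  intro q hq e he
  have := (hall0.symm ▸ he : e ∈ M ⊥ bot_le).2 q hq
  exact mul_inv_eq_iff_eq_mul.mp (mul_inv_eq_one.mp (Subgroup.mem_bot.mp this))

/-- The action modulo the kernel is cyclic. -/
theorem good_of_cyclicAction (hh : Hyp E H K z)
    (hmin : ∀ M : Subgroup G, Inv E H M → z ∈ M → (∀ a ∈ M, a = 1 ∨ a = z) ∨ M = E)
    (hnt : ∃ a ∈ E, a ≠ 1 ∧ a ≠ z)
    (hmax : ∀ A : Subgroup G, A ≤ K → H ≤ Subgroup.normalizer (A : Set G) →
      A ≤ Subgroup.centralizer (E : Set G) ∨ A = K)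
    {P : Subgroup G} (hP : P ≤ H) (hP2 : IsPGroup 2 P) (hPodd : Odd (P.relIndex H))
    (hHeq : K ⊔ P = H) {k : G} (hk : k ∈ K)
    (hgen : ∀ x ∈ K, ∃ i : ℤ, (k ^ i)⁻¹ * x ∈ K ⊓ Subgroup.centralizer (E : Set G)) :
    Good E H z := by
  classical
  set K0 : Subgroup G := K ⊓ Subgroup.centralizer (E : Set G) with hK0
  have hK0n : H ≤ Subgroup.normalizer (K0 : Set G) := le_normalizer_of_conj fun h h' x hx =>
    ⟨conj_mem_of_le_normalizer hh.normK h' hx.1,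
      conj_mem_of_le_normalizer (le_normalizer_centralizer hh.norm) h' hx.2⟩
  haveI : (K0.subgroupOf H).Normal := Subgroup.normal_subgroupOf_of_le_normalizer hK0n
  let π : ↥H →* ↥H ⧸ K0.subgroupOf H := QuotientGroup.mk' _
  have πone : ∀ x : ↥H, π x = 1 ↔ (x : G) ∈ K0 := fun x => QuotientGroup.eq_one_iff x
  let kk : ↥H := ⟨k, hh.le hk⟩
  set c := π kk with hc
  have hgen' : ∀ x : ↥H, (x : G) ∈ K → ∃ i : ℤ, π x = c ^ i := fun x hx => by
    obtain ⟨i, hi⟩ := hgen x hx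
    refine ⟨i, ?_⟩
    have : π ((kk ^ i)⁻¹ * x) = 1 := (πone _).mpr (by simpa [kk] using hi)
    rw [map_mul, map_inv, map_zpow, inv_mul_eq_one] at this
    exact this.symm
  have hKnot : ∀ x ∈ K, x ∈ Subgroup.centralizer (E : Set G) → x ∈ K0 := fun x hx hx' => ⟨hx, hx'⟩
  have hnK : ¬ K ≤ Subgroup.centralizer (E : Set G) := fun h => by
    obtain ⟨a, ha, h1, h2⟩ := hnt
    exact (hh.fix a ha fun x hx => (Subgroup.mem_centralizer_iff.mp (h hx) a ha).symm).elim h1 h2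
  have hc1 : c ≠ 1 := fun h => hnK fun x hx => by
    obtain ⟨i, hi⟩ := hgen' ⟨x, hh.le hx⟩ hx
    rw [h, one_zpow] at hi
    exact ((πone _).mp hi).2
  have hr : (orderOf c).Prime := by
    have h1 : 1 < orderOf c := by
      have h0 := orderOf_pos c
      have : orderOf c ≠ 1 := fun h => hc1 (orderOf_eq_one_iff.mp h)
      omega
    refine Nat.prime_def.mpr ⟨h1, fun d hd => ?_⟩
    let A : Subgroup G := ((Subgroup.zpowers (c ^ d)).comap π).map H.subtype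
    have hAK : A ≤ K := by
      rintro _ ⟨x, hx, rfl⟩
      obtain ⟨j, hj⟩ := Subgroup.mem_zpowers_iff.mp hx
      have : π ((kk ^ (d : ℤ)) ^ j)⁻¹ * π x = 1 := by
        rw [← hj, map_inv, map_zpow, map_zpow, zpow_natCast, inv_mul_cancel]
      rw [← map_mul, πone] at this
      have h2 : ((kk ^ (d : ℤ)) ^ j : ↥H).1 ∈ K := by
        simp only [kk, SubgroupClass.coe_zpow]
        exact K.zpow_mem (K.zpow_mem hk _) _
      have h3 := K.mul_mem h2 this.1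
      simpa [← mul_assoc] using h3
    have hAn : H ≤ Subgroup.normalizer (A : Set G) := by
      refine le_normalizer_of_conj ?_
      rintro h h' _ ⟨x, hx, rfl⟩
      refine ⟨⟨h, h'⟩ * x * ⟨h, h'⟩⁻¹, ?_, rfl⟩
      show π _ ∈ Subgroup.zpowers (c ^ d)
      obtain ⟨j, hj⟩ := Subgroup.mem_zpowers_iff.mp hx
      obtain ⟨i, hi⟩ := hgen' (⟨h, h'⟩ * kk * ⟨h, h'⟩⁻¹) (conj_mem_of_le_normalizer hh.normK h' hk)
      rw [map_mul, map_mul, map_inv] at hi
      refine Subgroup.mem_zpowers_iff.mpr ⟨i * j, ?_⟩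
      rw [map_mul, map_mul, map_inv, ← hj, ← conj_zpow, ← conj_pow, hi, ← zpow_natCast,
        ← zpow_natCast, ← zpow_mul, ← zpow_mul, ← zpow_mul]
      congr 1
      ring
    rcases hmax A hAK hAn with h | h
    · right
      have hmem : ((kk ^ d : ↥H) : G) ∈ A := ⟨kk ^ d, by
        show π (kk ^ d) ∈ Subgroup.zpowers (c ^ d); rw [map_pow]; exact Subgroup.mem_zpowers _, rfl⟩
      have : π (kk ^ d) = 1 := (πone _).mpr ⟨hAK hmem, h hmem⟩
      rw [map_pow] at this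
      exact Nat.dvd_antisymm hd (orderOf_dvd_of_pow_eq_one this)
    · left
      have hmem : k ∈ A := h ▸ hk
      obtain ⟨x, hx, hxk⟩ := hmem
      obtain ⟨j, hj⟩ := Subgroup.mem_zpowers_iff.mp hx
      rw [show x = kk from Subtype.ext hxk, ← zpow_natCast, ← zpow_mul] at hj
      have h2 : c ^ ((d : ℤ) * j) = c ^ (1 : ℤ) := by rw [zpow_one]; exact hj
      have h3 : (orderOf c : ℤ) ∣ 1 - (d : ℤ) * j :=
        Int.modEq_iff_dvd.mp (zpow_eq_zpow_iff_modEq.mp h2)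
      have h4 : (d : ℤ) ∣ 1 := by
        have := dvd_add ((Int.natCast_dvd_natCast.mpr hd).trans h3) (dvd_mul_right (d : ℤ) j)
        simpa using this
      exact Nat.dvd_one.mp (by exact_mod_cast h4)
  haveI : Fact (orderOf c).Prime := ⟨hr⟩
  have hact : ∀ p : P, ∃ i : ℤ, π (⟨p, hP p.2⟩ * kk * ⟨p, hP p.2⟩⁻¹) = c ^ i := fun p =>
    hgen' _ (conj_mem_of_le_normalizer hh.normK (hP p.2) hk)
  choose ex hex using hact
  have huniq : ∀ {i j : ℤ}, c ^ i = c ^ j → (i : ZMod (orderOf c)) = j := fun h =>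
    (ZMod.intCast_eq_intCast_iff _ _ _).mpr (zpow_eq_zpow_iff_modEq.mp h)
  let Ψ : P →* ZMod (orderOf c) :=
    { toFun := fun p => (ex p : ZMod (orderOf c))
      map_one' := by
        rw [← Int.cast_one]
        refine huniq ?_
        rw [← hex, zpow_one, hc]
        congr 1
        exact Subtype.ext (by simp [kk])
      map_mul' := fun p q => by
        rw [← Int.cast_mul]
        refine huniq ?_
        rw [← hex, show (⟨((p * q : P) : G), hP (p * q).2⟩ : ↥H) = ⟨p, hP p.2⟩ * ⟨q, hP q.2⟩ from rfl,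
          show (⟨(p : G), hP p.2⟩ * ⟨q, hP q.2⟩) * kk * ((⟨p, hP p.2⟩ : ↥H) * ⟨q, hP q.2⟩)⁻¹ =
            ⟨p, hP p.2⟩ * (⟨q, hP q.2⟩ * kk * ⟨q, hP q.2⟩⁻¹) * (⟨p, hP p.2⟩ : ↥H)⁻¹ by group,
          map_mul, map_mul, map_inv, hex q, ← conj_zpow, ← map_inv, ← map_mul, ← map_mul, hex p,
          ← zpow_mul] }
  let P0 : Subgroup G := Ψ.toHomUnits.ker.map P.subtype
  have hP0P : P0 ≤ P := Subgroup.map_subtype_le _
  have hP0n : P ≤ Subgroup.normalizer (P0 : Set G) := by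
    refine le_normalizer_of_conj ?_
    rintro r hr _ ⟨q, hq, rfl⟩
    exact ⟨⟨r, hr⟩ * q * ⟨r, hr⟩⁻¹, Subgroup.Normal.conj_mem inferInstance q hq _, rfl⟩
  have htriv : ∀ (q : G) (hq : q ∈ P0) (x : G) (hx : x ∈ K),
      π (⟨q, hP (hP0P hq)⟩ * ⟨x, hh.le hx⟩ * (⟨q, hP (hP0P hq)⟩ : ↥H)⁻¹) = π ⟨x, hh.le hx⟩ := by
    rintro _ ⟨q, hq, rfl⟩ x hx
    have h1 : c ^ (ex q) = c := by
      have e : Ψ q = 1 := congrArg Units.val (MonoidHom.mem_ker.mp hq)
      have e' : ((ex q : ℤ) : ZMod (orderOf c)) = ((1 : ℤ) : ZMod (orderOf c)) := by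
        rw [Int.cast_one]; exact e
      calc c ^ ex q = c ^ (1 : ℤ) :=
            zpow_eq_zpow_iff_modEq.mpr ((ZMod.intCast_eq_intCast_iff _ _ _).mp e')
        _ = c := zpow_one c
    obtain ⟨i, hi⟩ := hgen' ⟨x, hh.le hx⟩ hx
    rw [map_mul, map_mul, map_inv, hi, ← conj_zpow, ← map_inv, ← map_mul, ← map_mul]
    exact congrArg (· ^ i) ((hex q).trans h1)
  have hcent : ∀ q ∈ P0, ∀ e ∈ E, q * e = e * q := by
    refine centralizes_of_trivial_mod hh hmin hnt hP hHeq hP0P hP0n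
      (hP2.of_injective (Subgroup.inclusion hP0P) (Subgroup.inclusion_injective _)) ?_
    intro q hq x hx e he
    have h1 := htriv q hq x hx
    rw [← inv_mul_eq_one, ← map_inv, ← map_mul, πone] at h1
    have h2 : (q * x * q⁻¹)⁻¹ * x ∈ K0 := h1
    -- `x⁻¹ q x = q c0` with `c0` in the kernel
    obtain ⟨c0, hc0, hqx⟩ : ∃ c0 ∈ K0, x⁻¹ * q * x = q * c0 := by
      refine ⟨q⁻¹ * (x⁻¹ * q * x), ?_, by group⟩
      have h3 := K0.inv_mem (conj_mem_of_le_normalizer' hK0n (hP (hP0P hq)) h2)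
      convert h3 using 1
      group
    have hce : c0 * e * c0⁻¹ = e := by
      rw [← Subgroup.mem_centralizer_iff.mp hc0.2 e he, mul_inv_cancel_right]
    rw [hqx, show q * c0 * e * (q * c0)⁻¹ = q * (c0 * e * c0⁻¹) * q⁻¹ by group, hce]
  -- the extension to `P0`
  obtain ⟨θ, hθ⟩ := hh.sym.exists_faith
  have hP0H : P0 ≤ H := hP0P.trans hP
  have hnP0 : P0 ≤ Subgroup.normalizer (E : Set G) := hP0H.trans hh.norm
  have hd0 : E ⊓ P0 = ⊥ := eq_bot_iff.mpr (hh.disj ▸ inf_le_inf_left E hP0H)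
  have hdec : ∀ x : ↥(E ⊔ P0), ∃ e : ↥E, ∃ q ∈ P0, (e : G) * q = x := fun x => by
    obtain ⟨e, he, q, hq, hx⟩ := (mem_sup_iff hnP0).mp x.2
    exact ⟨⟨e, he⟩, q, hq, hx⟩
  choose pe pq hpq hpx using hdec
  have hpu : ∀ (x : ↥(E ⊔ P0)) (e : ↥E) (q : G), q ∈ P0 → (e : G) * q = x → pe x = e :=
    fun x e q hq h => Subtype.ext
      (eq_of_mul_eq hd0 (pe x).2 e.2 (hpq x) hq ((hpx x).trans h.symm)).1
  let ψ : ↥(E ⊔ P0) →* ↥E :=
    { toFun := pe
      map_one' := hpu 1 1 1 P0.one_mem (by simp)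
      map_mul' := fun x y => hpu _ _ (pq x * pq y) (P0.mul_mem (hpq x) (hpq y)) (by
        rw [Subgroup.coe_mul, Subgroup.coe_mul, ← hpx x, ← hpx y]
        simp only [mul_assoc]
        rw [← mul_assoc (pq x) (pe y : G), hcent _ (hpq x) _ (pe y).2, mul_assoc]) }
  have hψE : ∀ x : ↥E, ψ (Subgroup.inclusion le_sup_left x) = x := fun x =>
    hpu _ x 1 P0.one_mem (mul_one _)
  have hχ : IsCharacter ↥(E ⊔ P0) (fun x => θ (ψ x)) := IsChar.comp ψ (IsIrr.isCharacter hθ.1)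
  have hf : Faith E z (fun x : ↥E => θ (ψ (Subgroup.inclusion le_sup_left x))) := by
    simp only [hψE]; exact hθ
  obtain ⟨g, hg⟩ := isCyclic_iff_exists_zpowers_eq_top.mp
    (inferInstance : IsCyclic Ψ.toHomUnits.range)
  obtain ⟨t, ht⟩ := g.2
  refine Good.of_witness hh hP hPodd (Good.of_cyclic (hP.trans hh.norm) hP0P hP0n t.2 ?_ hχ hf ?_)
  · intro h h'
    have hmem : (⟨Ψ.toHomUnits ⟨h, h'⟩, ⟨_, rfl⟩⟩ : Ψ.toHomUnits.range) ∈ Subgroup.zpowers g := by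
      rw [hg]; exact Subgroup.mem_top _
    obtain ⟨i, hi⟩ := Subgroup.mem_zpowers_iff.mp hmem
    refine ⟨i, ⟨(t ^ i)⁻¹ * ⟨h, h'⟩, MonoidHom.mem_ker.mpr ?_, by simp⟩⟩
    rw [map_mul, map_inv, map_zpow, ht, inv_mul_eq_one]
    exact congrArg Subtype.val hi
  · intro h h' x hx hx'
    obtain ⟨e, he, q, hq, hxq⟩ := (mem_sup_iff hnP0).mp hx
    have he' : h * e * h⁻¹ ∈ E := conj_mem_of_le_normalizer hh.norm (hP h') he
    have hψ1 : ψ ⟨x, hx⟩ = ⟨e, he⟩ := hpu _ ⟨e, he⟩ q hq hxq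
    have hψ2 : ψ ⟨h * x * h⁻¹, hx'⟩ = ⟨h * e * h⁻¹, he'⟩ :=
      hpu _ ⟨_, he'⟩ _ (conj_mem_of_le_normalizer hP0n h' hq) (by
        show h * e * h⁻¹ * (h * q * h⁻¹) = h * x * h⁻¹
        rw [← hxq]; group)
    show θ (ψ ⟨h * x * h⁻¹, hx'⟩) = θ (ψ ⟨x, hx⟩)
    rw [hψ1, hψ2]
    refine (hh.sym.values (IsIrr.isCharacter hθ.1) hθ.2 _).trans
      (Eq.trans ?_ (hh.sym.values (IsIrr.isCharacter hθ.1) hθ.2 _).symm)
    have hz := hh.z_comm (hP h')
    have e1 : (h * e * h⁻¹ = 1) ↔ e = 1 :=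
      ⟨fun e' => by rwa [mul_inv_eq_one, mul_eq_left] at e', fun e' => by simp [e']⟩
    have e2 : (h * e * h⁻¹ = z) ↔ e = z :=
      ⟨fun e' => mul_left_cancel (a := h) ((mul_inv_eq_iff_eq_mul.mp e').trans hz.symm),
        fun e' => by rw [e', hz, mul_inv_cancel_right]⟩
    dsimp only
    simp only [e1, e2]

end Cfsg.Agent.SympExt
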