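import Cfsg.Agent.Lib.Char.SympExt.Wreath
import Cfsg.Agent.Lib.Grp.Solvable
import Cfsg.Agent.S0205

/-!
The faithful character of a symplectic group extends over a group acting with an odd normal
subgroup fixing only the centre.
-/

set_option autoImplicit false

namespace Cfsg.Agent.SympExt

open Cfsg
open Cfsg.Agent.Char
open scoped commutatorElement

universe u

variable {G : Type u} [Group G] [Finite G] {E H K : Subgroup G} {z : G}

theorem good_step (hh : Hyp E H K z) (ih : Below.{u} (Nat.card ↥(E ⊔ H))) : Good E H z := by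
  classical
  by_cases hnt : ∃ a ∈ E, a ≠ 1 ∧ a ≠ z
  swap
  · push Not at hnt
    exact Good.of_center hh fun a ha => or_iff_not_imp_left.mpr (hnt a ha)
  by_cases hsing : ∃ T : Subgroup G, Inv E H T ∧ (∀ a ∈ T, ∀ b ∈ T, a * b = b * a) ∧ z ∈ T ∧
      ∃ a ∈ T, a ≠ 1 ∧ a ≠ z
  · obtain ⟨T, hT, hab, hz, hne⟩ := hsing
    exact good_of_singular hh ih hT hab hz hne
  have hnd : ∀ T : Subgroup G, Inv E H T → (∀ a ∈ T, ∀ b ∈ T, a * b = b * a) → z ∈ T →
      ∀ a ∈ T, a = 1 ∨ a = z := fun T h1 h2 h3 a ha => by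
    by_contra h
    rw [not_or] at h
    exact hsing ⟨T, h1, h2, h3, a, ha, h⟩
  have hsymM : ∀ M : Subgroup G, Inv E H M → z ∈ M → Sym M z := fun M hM hzM =>
    hh.sym.mono hM.1 hzM fun a ha hab => by
      refine hnd (M ⊓ Subgroup.centralizer (M : Set G))
        ⟨inf_le_left.trans hM.1, le_normalizer_of_conj fun h h' x hx =>
          ⟨conj_mem_of_le_normalizer hM.2 h' hx.1,
            conj_mem_of_le_normalizer (le_normalizer_centralizer hM.2) h' hx.2⟩⟩
        (fun x hx y hy => Subgroup.mem_centralizer_iff.mp hy.2 x hx.1)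
        ⟨hzM, Subgroup.mem_centralizer_iff.mpr fun b hb => hh.sym.central b (hM.1 hb)⟩ a
        ⟨ha, Subgroup.mem_centralizer_iff.mpr fun b hb => (hab b hb).symm⟩
  have hsmaller : ∀ M : Subgroup G, M ≤ E → M ≠ E →
      Nat.card M * Nat.card H < Nat.card E * Nat.card H := fun M hM hne =>
    Nat.mul_lt_mul_of_pos_right (lt_of_le_of_ne (Nat.le_of_dvd Nat.card_pos (Subgroup.card_dvd_of_le hM))
      fun h => hne (Subgroup.eq_of_le_of_card_ge hM h.ge)) Nat.card_pos
  by_cases hred : ∃ M : Subgroup G, Inv E H M ∧ z ∈ M ∧ (∃ a ∈ M, a ≠ 1 ∧ a ≠ z) ∧ M ≠ E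
  · obtain ⟨M, hM, hzM, ⟨a, ha, hane⟩, hne⟩ := hred
    set C : Subgroup G := E ⊓ Subgroup.centralizer (M : Set G) with hC
    have hCi : Inv E H C := Inv.centralizer hh hM
    have hzC : z ∈ C := z_mem_centralizer hh hM.1
    have sM := hsymM M hM hzM
    have sC := hsymM C hCi hzC
    have hCne : C ≠ E := fun h => hane.1 (((sM.center a ha fun b hb =>
      Subgroup.mem_centralizer_iff.mp (show b ∈ Subgroup.centralizer (M : Set G) from
        ((h.symm ▸ hM.1 hb : b ∈ C)).2) a ha).resolve_right hane.2))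
    have hinf : M ⊓ C = Subgroup.zpowers z := by
      refine le_antisymm (fun x hx => sM.mem_zpowers.mpr (sM.center x hx.1 fun b hb =>
        (Subgroup.mem_centralizer_iff.mp hx.2.2 b hb).symm)) ?_
      rw [Subgroup.zpowers_le]; exact ⟨hzM, hzC⟩
    have hcomm : ∀ x ∈ M, ∀ y ∈ C, x * y = y * x := fun x hx y hy =>
      Subgroup.mem_centralizer_iff.mp hy.2 x hx
    have hsup : M ⊔ C = E := by
      refine Subgroup.eq_of_le_of_card_ge (sup_le hM.1 inf_le_left) (le_of_eq ?_)
      have h1 := Cfsg.Agent.Grp.card_sup_mul_card_inf (H := M) (N := C)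
        (le_normalizer_of_conj fun x hx y hy => by rw [hcomm x hx y hy, mul_inv_cancel_right]; exact hy)
      have h2 := hh.sym.pairing (X := E) (Y := M) le_rfl hM.1
      have h3 : M ⊓ Subgroup.centralizer (E : Set G) = Subgroup.zpowers z := by
        refine le_antisymm (fun x hx => sM.mem_zpowers.mpr (hh.sym.center x (hM.1 hx.1)
          fun b hb => (Subgroup.mem_centralizer_iff.mp hx.2 b hb).symm)) ?_
        rw [Subgroup.zpowers_le]
        exact ⟨hzM, Subgroup.mem_centralizer_iff.mpr fun b hb => hh.sym.central b hb⟩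
      rw [hinf, hh.sym.card_zpowers] at h1
      rw [h3, hh.sym.card_zpowers, ← hC] at h2
      omega
    have hhM : Hyp M H K z := hh.sub hM sM hh.le le_rfl
    have hhC : Hyp C H K z := hh.sub hCi sC hh.le le_rfl
    obtain ⟨χ1, hχ1, hf1⟩ := ih G M H K z hhM (by
      rw [card_sup hhM.norm hhM.disj, card_sup hh.norm hh.disj]; exact hsmaller M hM.1 hne)
    obtain ⟨χ2, hχ2, hf2⟩ := ih G C H K z hhC (by
      rw [card_sup hhC.norm hhC.disj, card_sup hh.norm hh.disj]; exact hsmaller C hCi.1 hCne)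
    obtain ⟨χ, hχ, hf, -⟩ := product hh hM hCi sM sC hcomm hsup hχ1 hf1 hχ2 hf2
    exact ⟨χ, hχ, hf⟩
  have hmin : ∀ M : Subgroup G, Inv E H M → z ∈ M → (∀ a ∈ M, a = 1 ∨ a = z) ∨ M = E := by
    intro M hM hzM
    by_contra h
    rw [not_or] at h
    refine hred ⟨M, hM, hzM, ?_, h.2⟩
    by_contra h'
    push Not at h'
    exact h.1 fun a ha => or_iff_not_imp_left.mpr (h' a ha)
  haveI : Fact (Nat.Prime 2) := ⟨Nat.prime_two⟩
  obtain ⟨P, hPH, hP2, hPndvd⟩ := Cfsg.Agent.Grp.exists_isSylowIn 2 H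
  have hPodd : Odd (P.relIndex H) := Nat.not_even_iff_odd.mp fun h => hPndvd (even_iff_two_dvd.mp h)
  by_cases hR : ∃ A : Subgroup G, A ≤ K ∧ H ≤ Subgroup.normalizer (A : Set G) ∧
      ¬ A ≤ Subgroup.centralizer (E : Set G) ∧ A ⊔ P ≠ H
  · obtain ⟨A, hAK, hAn, hAnc, hne⟩ := hR
    have hle : A ⊔ P ≤ H := sup_le (hAK.trans hh.le) hPH
    have hhA : Hyp E (A ⊔ P) A z :=
      { sym := hh.sym
        norm := hle.trans hh.norm
        disj := eq_bot_iff.mpr (hh.disj ▸ inf_le_inf_left E hle)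
        le := le_sup_left
        normK := hle.trans hAn
        odd := hh.odd.of_dvd_nat (Subgroup.card_dvd_of_le hAK)
        fix := fun a ha hab => by
          refine (hmin (E ⊓ Subgroup.centralizer (A : Set G))
            ⟨inf_le_left, le_normalizer_of_conj fun h h' x hx =>
              ⟨conj_mem_of_le_normalizer hh.norm h' hx.1,
                conj_mem_of_le_normalizer (le_normalizer_centralizer hAn) h' hx.2⟩⟩
            ⟨hh.sym.mem, Subgroup.mem_centralizer_iff.mpr fun b hb => hh.z_comm (hh.le (hAK hb))⟩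
            ).resolve_right (fun heq => hAnc ?_) a
            ⟨ha, Subgroup.mem_centralizer_iff.mpr fun b hb => hab b hb⟩
          intro b hb
          exact Subgroup.mem_centralizer_iff.mpr fun x hx =>
            (Subgroup.mem_centralizer_iff.mp ((heq.symm ▸ hx : x ∈ E ⊓ _)).2 b hb).symm }
    refine Good.of_witness hh hle (Odd.of_dvd_nat hPodd
      (Subgroup.relIndex_dvd_of_le_left H le_sup_right)) (ih G E (A ⊔ P) A z hhA ?_)
    rw [card_sup hhA.norm hhA.disj, card_sup hh.norm hh.disj]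
    exact Nat.mul_lt_mul_of_pos_left (lt_of_le_of_ne
      (Nat.le_of_dvd Nat.card_pos (Subgroup.card_dvd_of_le hle))
      fun h => hne (Subgroup.eq_of_le_of_card_ge hle h.ge)) Nat.card_pos
  obtain ⟨a, ha, ha1, haz⟩ := hnt
  have hKnc : ¬ K ≤ Subgroup.centralizer (E : Set G) := fun h =>
    (hh.fix a ha fun x hx => (Subgroup.mem_centralizer_iff.mp (h hx) a ha).symm).elim ha1 haz
  have hHeq : K ⊔ P = H := by
    by_contra h
    exact hR ⟨K, le_rfl, hh.normK, hKnc, h⟩
  have hKP : ∀ x ∈ K, x ∈ P → x = 1 := fun x hx hxP => by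
    obtain ⟨n, hn⟩ := IsPGroup.iff_card.mp hP2
    have h1 := Nat.eq_one_of_dvd_coprimes ((Nat.coprime_two_left.mpr hh.odd).pow_left n)
      (hn ▸ Subgroup.orderOf_dvd_natCard P hxP) (Subgroup.orderOf_dvd_natCard K hx)
    exact orderOf_eq_one_iff.mp h1
  have hmax : ∀ A : Subgroup G, A ≤ K → H ≤ Subgroup.normalizer (A : Set G) →
      A ≤ Subgroup.centralizer (E : Set G) ∨ A = K := by
    intro A hAK hAn
    refine or_iff_not_imp_left.mpr fun hAnc => le_antisymm hAK fun x hx => ?_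
    have heq : A ⊔ P = H := by
      by_contra h
      exact hR ⟨A, hAK, hAn, hAnc, h⟩
    obtain ⟨b, hb, p, hp, hbp⟩ := (mem_sup_iff (hPH.trans hAn)).mp (heq.symm ▸ hh.le hx : x ∈ A ⊔ P)
    have hp1 : p = 1 := hKP p (by
      have : p = b⁻¹ * x := by rw [← hbp, inv_mul_cancel_left]
      rw [this]; exact K.mul_mem (K.inv_mem (hAK hb)) hx) hp
    rw [← hbp, hp1, mul_one]; exact hb
  have hsolv : Group.IsSolvable K := Cfsg.Agent.S0205.result hh.odd
  have hKK : ⁅K, K⁆ ≤ Subgroup.centralizer (E : Set G) := by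
    refine (hmax _ (Subgroup.commutator_le_self K) (le_normalizer_commutator hh.normK hh.normK)).resolve_right
      (Cfsg.Agent.Grp.commutator_lt_self_of_solvable hsolv fun h => hKnc (h.symm ▸ bot_le)).ne
  by_cases hcyc : ∃ k ∈ K, ∀ x ∈ K, ∃ i : ℤ, (k ^ i)⁻¹ * x ∈ K ⊓ Subgroup.centralizer (E : Set G)
  · obtain ⟨k, hk, hgen⟩ := hcyc
    exact good_of_cyclicAction hh hmin ⟨a, ha, ha1, haz⟩ hmax hPH hP2 hPodd hHeq hk hgen
  · exact good_of_noncyclicAction hh ih hsolv hmin ⟨a, ha, ha1, haz⟩ hmax hKK hPH hP2 hHeq hcyc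

theorem below (n : ℕ) : Below.{u} n := by
  induction n with
  | zero => intro G' _ _ E H K z _ h; exact absurd h (Nat.not_lt_zero _)
  | succ n ihn =>
    intro G' _ _ E H K z hh hlt
    exact good_step hh fun G'' _ _ E' H' K' z' hh' hlt' =>
      ihn G'' E' H' K' z' hh' (lt_of_lt_of_le hlt' (Nat.lt_succ_iff.mp hlt))

/-- The extension theorem. -/
theorem good (hh : Hyp E H K z) : Good E H z :=
  below _ G E H K z hh (Nat.lt_succ_self _)

end Cfsg.Agent.SympExt
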