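import Cfsg.Agent.Lib.Char.SympExt.Step

/-!
The singular case: an invariant abelian subgroup properly containing the centre. The extension is
induced from the preimage of a smaller instance.
-/

set_option autoImplicit false

namespace Cfsg.Agent.SympExt

open Cfsg
open Cfsg.Agent.Char
open scoped commutatorElement

universe u

/-- The extension exists whenever the product is smaller than `n`. -/
def Below (n : ℕ) : Prop :=
  ∀ (G' : Type u) [Group G'] [Finite G'] (E H K : Subgroup G') (z : G'),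
    Hyp E H K z → Nat.card ↥(E ⊔ H) < n → Good E H z

variable {G : Type u} [Group G] {E H K : Subgroup G} {z : G}

theorem le_normalizer_commutator {A Q S : Subgroup G}
    (hQ : A ≤ Subgroup.normalizer (Q : Set G)) (hS : A ≤ Subgroup.normalizer (S : Set G)) :
    A ≤ Subgroup.normalizer ((⁅Q, S⁆ : Subgroup G) : Set G) := fun a ha => by
  rw [Cfsg.Agent.Grp.mem_normalizer_iff_smul, ← Cfsg.Agent.Grp.map_conj_eq_smul,
    Subgroup.map_commutator, Cfsg.Agent.Grp.map_conj_eq_smul, Cfsg.Agent.Grp.map_conj_eq_smul,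
    Cfsg.Agent.Grp.normalizer_le_smul hQ ha, Cfsg.Agent.Grp.normalizer_le_smul hS ha]

theorem Inv.centralizer (hh : Hyp E H K z) {M : Subgroup G} (hM : Inv E H M) :
    Inv E H (E ⊓ Subgroup.centralizer (M : Set G)) := by
  refine ⟨inf_le_left, le_normalizer_of_conj fun h h' x hx =>
    ⟨conj_mem_of_le_normalizer hh.norm h' hx.1, Subgroup.mem_centralizer_iff.mpr fun m hm => ?_⟩⟩
  have e := Subgroup.mem_centralizer_iff.mp hx.2 _ (conj_mem_of_le_normalizer' hM.2 h' hm)
  calc m * (h * x * h⁻¹) = h * (h⁻¹ * m * h * x) * h⁻¹ := by group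
    _ = h * (x * (h⁻¹ * m * h)) * h⁻¹ := by rw [e]
    _ = h * x * h⁻¹ * m := by group

theorem Inv.inf (hA : Inv E H K) {B : Subgroup G} (hB : H ≤ Subgroup.normalizer (B : Set G)) :
    Inv E H (K ⊓ B) :=
  ⟨inf_le_left.trans hA.1, le_normalizer_of_conj fun _ h' _ hx =>
    ⟨conj_mem_of_le_normalizer hA.2 h' hx.1, conj_mem_of_le_normalizer hB h' hx.2⟩⟩

theorem z_mem_centralizer (hh : Hyp E H K z) {M : Subgroup G} (hM : M ≤ E) :
    z ∈ E ⊓ Subgroup.centralizer (M : Set G) :=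
  ⟨hh.sym.mem, Subgroup.mem_centralizer_iff.mpr fun m hm => hh.sym.central m (hM hm)⟩

variable [Finite G]

theorem Hyp.coprime (hh : Hyp E H K z) {T : Subgroup G} (hT : T ≤ E) :
    (Nat.card K).Coprime (Nat.card T) := by
  obtain ⟨n, hn⟩ := hh.sym.two_pow
  exact ((Nat.coprime_two_left.mpr hh.odd).pow_left n).symm.coprime_dvd_right
    (hn ▸ Subgroup.card_dvd_of_le hT)

theorem indFun_central {L : Type u} [Group L] [Fintype L] (J : Subgroup L) (θ : ↥J → ℂ) {w : L}
    (hw : ∀ x, x * w = w * x) (hJ : w ∈ J) : indFun J θ w = (J.index : ℂ) * θ ⟨w, hJ⟩ := by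
  have h : ∀ x : L, extendByZero J θ (x⁻¹ * w * x) = θ ⟨w, hJ⟩ := fun x => by
    rw [show x⁻¹ * w * x = w by rw [mul_assoc, ← hw x, inv_mul_cancel_left]]
    exact extendByZero_of_mem θ hJ
  simp only [indFun, h, Finset.sum_const, Finset.card_univ, ← Nat.card_eq_fintype_card,
    nsmul_eq_mul]
  have h2 : (J.index : ℂ) * (Nat.card J : ℂ) = (Nat.card L : ℂ) := by
    exact_mod_cast J.index_mul_card
  rw [← h2, ← mul_assoc, mul_comm (J.index : ℂ), ← mul_assoc,
    inv_mul_cancel₀ (Nat.cast_ne_zero.mpr Nat.card_pos.ne'), one_mul]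

/-- Induction from the centraliser of a maximal invariant abelian subgroup. -/
theorem good_of_maximal (hh : Hyp E H K z) (ih : Below.{u} (Nat.card ↥(E ⊔ H))) {T : Subgroup G}
    (hT : Inv E H T) (habel : ∀ a ∈ T, ∀ b ∈ T, a * b = b * a) (hzT : z ∈ T)
    (hne : ∃ a ∈ T, a ≠ 1 ∧ a ≠ z)
    (hmax : ∀ T' : Subgroup G, Inv E H T' → (∀ a ∈ T', ∀ b ∈ T', a * b = b * a) → T ≤ T' →
      T' ≤ T) : Good E H z := by
  classical
  obtain ⟨hs, hn, hd⟩ := And.intro hh.sym (And.intro hh.norm hh.disj)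
  set E0 : Subgroup G := E ⊓ Subgroup.centralizer (T : Set G) with hE0
  have hE0i : Inv E H E0 := Inv.centralizer hh hT
  have hTE0 : T ≤ E0 := fun a ha =>
    ⟨hT.1 ha, Subgroup.mem_centralizer_iff.mpr fun b hb => habel b hb a ha⟩
  have hcentre : ∀ a ∈ E0, (∀ b ∈ E0, a * b = b * a) → a ∈ T := by
    intro a ha hab
    refine hmax (E0 ⊓ Subgroup.centralizer (E0 : Set G))
      ⟨inf_le_left.trans hE0i.1, le_normalizer_of_conj fun h h' x hx => ?_⟩
      (fun x hx y hy => (Subgroup.mem_centralizer_iff.mp hy.2 x hx.1)) (fun x hx => ?_)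
      ⟨ha, Subgroup.mem_centralizer_iff.mpr fun b hb => (hab b hb).symm⟩
    · refine ⟨conj_mem_of_le_normalizer hE0i.2 h' hx.1, Subgroup.mem_centralizer_iff.mpr fun m hm => ?_⟩
      have e := Subgroup.mem_centralizer_iff.mp hx.2 _ (conj_mem_of_le_normalizer' hE0i.2 h' hm)
      calc m * (h * x * h⁻¹) = h * (h⁻¹ * m * h * x) * h⁻¹ := by group
        _ = h * (x * (h⁻¹ * m * h)) * h⁻¹ := by rw [e]
        _ = h * x * h⁻¹ * m := by group
    · exact ⟨hTE0 hx, Subgroup.mem_centralizer_iff.mpr fun b hb =>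
        (Subgroup.mem_centralizer_iff.mp hb.2 x hx).symm⟩
  have hKT : K ≤ Subgroup.normalizer (T : Set G) := hh.le.trans hT.2
  have hcop := hh.coprime hT.1
  have hsolv : Group.IsSolvable K ∨ Group.IsSolvable T := Or.inr (by
    haveI : IsMulCommutative T := ⟨⟨fun a b => Subtype.ext (habel a a.2 b b.2)⟩⟩
    open scoped IsMulCommutative in infer_instance)
  have hfixT : T ⊓ Subgroup.centralizer (K : Set G) = Subgroup.zpowers z := by
    refine le_antisymm (fun a ha => hs.mem_zpowers.mpr (hh.fix a (hT.1 ha.1)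
      fun k hk => Subgroup.mem_centralizer_iff.mp ha.2 k hk)) ?_
    rw [Subgroup.zpowers_le]
    exact ⟨hzT, Subgroup.mem_centralizer_iff.mpr fun k hk => hh.z_comm (hh.le hk)⟩
  set U : Subgroup G := ⁅T, K⁆ with hU
  have hUT : U ≤ T := Cfsg.Agent.Grp.commutator_le_left_of_le_normalizer hKT
  have hdisj : Subgroup.zpowers z ⊓ U = ⊥ := by
    haveI : IsMulCommutative T := ⟨⟨fun a b => Subtype.ext (habel a a.2 b b.2)⟩⟩
    rw [← hfixT]
    exact Cfsg.Agent.Grp.abelian_commutator_inf_fixed K T hKT hcop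
  have hzU : z ∉ U := fun h => hs.ne_one (by
    have : z ∈ Subgroup.zpowers z ⊓ U := ⟨Subgroup.mem_zpowers z, h⟩
    rwa [hdisj, Subgroup.mem_bot] at this)
  have hTsup : U ⊔ Subgroup.zpowers z = T := by
    rw [← hfixT]
    exact Cfsg.Agent.Grp.commutator_sup_fixed K T hKT hcop hsolv
  have hTcard : Nat.card T = Nat.card U * 2 := by
    have hUZ : U ≤ Subgroup.normalizer (Subgroup.zpowers z : Set G) :=
      le_normalizer_of_conj fun a ha x hx => by
        rcases hs.mem_zpowers.mp hx with rfl | rfl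
        · simp
        · rw [hs.central a (hT.1 (hUT ha)), mul_inv_cancel_right]; exact Subgroup.mem_zpowers _
    have := Cfsg.Agent.Grp.card_sup_mul_card_inf hUZ
    rwa [hTsup, inf_comm, hdisj, Subgroup.card_bot, mul_one, hs.card_zpowers] at this
  have hU2 : 2 ≤ Nat.card U := by
    by_contra hlt
    have h1 : Nat.card U = 1 := by
      have : 0 < Nat.card U := Nat.card_pos
      omega
    obtain ⟨a, ha, ha1, haz⟩ := hne
    rw [← hTsup, Subgroup.card_eq_one.mp h1, bot_sup_eq] at ha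
    exact (hs.mem_zpowers.mp ha).elim ha1 haz
  set L0 : Subgroup G := E0 ⊔ H with hL0
  have hL0L : L0 ≤ E ⊔ H := sup_le_sup_right hE0i.1 H
  have hE0U : ∀ a ∈ E0, ∀ x ∈ U, a * x = x * a := fun a ha x hx =>
    (Subgroup.mem_centralizer_iff.mp ha.2 x (hUT hx)).symm
  have hL0U : L0 ≤ Subgroup.normalizer (U : Set G) :=
    sup_le (le_normalizer_of_conj fun a ha x hx => by
        rw [hE0U a ha x hx, mul_inv_cancel_right]; exact hx)
      (le_normalizer_commutator hT.2 hh.normK)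
  have hUL0 : U ≤ L0 := (hUT.trans hTE0).trans le_sup_left
  haveI : (U.subgroupOf L0).Normal := Subgroup.normal_subgroupOf_of_le_normalizer hL0U
  let π : ↥L0 →* ↥L0 ⧸ U.subgroupOf L0 := QuotientGroup.mk' _
  have πeq : ∀ x y : ↥L0, π x = π y ↔ (x : G)⁻¹ * y ∈ U := fun x y => by
    rw [QuotientGroup.mk'_apply, QuotientGroup.mk'_apply, QuotientGroup.eq,
      Subgroup.mem_subgroupOf, Subgroup.coe_mul, InvMemClass.coe_inv]
  let E' := (E0.subgroupOf L0).map π
  let H' := (H.subgroupOf L0).map π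
  let K' := (K.subgroupOf L0).map π
  let z0 : ↥L0 := ⟨z, Subgroup.mem_sup_left (hTE0 hzT)⟩
  let z' := π z0
  have hHL0 : H ≤ L0 := le_sup_right
  have hKL0 : K ≤ L0 := hh.le.trans hHL0
  have hnorm' : ∀ {A C : Subgroup G}, A ≤ Subgroup.normalizer (C : Set G) →
      (A.subgroupOf L0).map π ≤ Subgroup.normalizer ((C.subgroupOf L0).map π : Set _) := by
    intro A C hAC
    refine le_normalizer_of_conj fun a ha x hx => ?_
    obtain ⟨a, ha, rfl⟩ := ha
    obtain ⟨x, hx, rfl⟩ := hx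
    rw [← map_inv, ← map_mul, ← map_mul]
    exact Subgroup.mem_map_of_mem _ (conj_mem_of_le_normalizer hAC ha hx)
  have hyp' : Hyp E' H' K' z' := by
    refine ⟨⟨⟨z0, hTE0 hzT, rfl⟩, fun e => hzU ?_, ?_, ?_, ?_, ?_⟩,
      hnorm' hE0i.2, ?_, Subgroup.map_mono (fun x hx => hh.le hx), hnorm' hh.normK, ?_, ?_⟩
    · have e1 := (πeq 1 z0).mp (by rw [map_one]; exact e.symm)
      simpa using e1
    · show π z0 * π z0 = 1
      rw [← map_mul, show z0 * z0 = 1 from Subtype.ext hs.sq, map_one]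
    · rintro _ ⟨a, ha, rfl⟩
      show π a * π z0 = π z0 * π a
      rw [← map_mul, ← map_mul]
      exact congrArg π (Subtype.ext (hs.central a (hE0i.1 ha)))
    · rintro _ ⟨a, ha, rfl⟩ _ ⟨b, hb, rfl⟩
      rw [← map_commutatorElement]
      rcases hs.comm a (hE0i.1 ha) b (hE0i.1 hb) with e | e
      · left; rw [show ⁅a, b⁆ = 1 from Subtype.ext e, map_one]
      · right; rw [show ⁅a, b⁆ = z0 from Subtype.ext e]
    · rintro _ ⟨a, ha, rfl⟩ hab
      have ha : (a : G) ∈ E0 := ha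
      have hcomm : ∀ b ∈ E0, (a : G) * b = b * a := by
        intro b hb
        have e := hab (π ⟨b, Subgroup.mem_sup_left hb⟩) ⟨_, hb, rfl⟩
        rw [← map_mul, ← map_mul, πeq] at e
        rcases hs.comm _ (E.inv_mem (hE0i.1 ha)) _ (E.inv_mem (hE0i.1 hb)) with h1 | h1
        · have h2 := commutatorElement_eq_one_iff_mul_comm.mp h1
          rw [← mul_inv_rev, ← mul_inv_rev, inv_inj] at h2
          exact h2.symm
        · refine absurd ?_ hzU
          have h3 : ((a : G) * b)⁻¹ * (b * a) = (⁅(a : G)⁻¹, b⁻¹⁆)⁻¹ := by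
            rw [commutatorElement_def]; group
          have h4 : ((a : G) * b)⁻¹ * (b * a) ∈ U := e
          have h5 : ((b : G) * a)⁻¹ * (a * b) ∈ U := by
            have := U.inv_mem h4
            rwa [mul_inv_rev, inv_inv] at this
          have h6 : ((b : G) * a)⁻¹ * (a * b) = ⁅(a : G)⁻¹, b⁻¹⁆ := by
            rw [commutatorElement_def]; group
          rwa [h6, h1] at h5
      have haT := hcentre a ha hcomm
      rw [← hTsup, ← SetLike.mem_coe, Subgroup.coe_mul_of_left_le_normalizer_right U _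
        (le_normalizer_of_conj fun a ha x hx => by
          rcases hs.mem_zpowers.mp hx with e | e <;> rw [e]
          · simp
          · rw [hs.central a (hT.1 (hUT ha)), mul_inv_cancel_right]; exact Subgroup.mem_zpowers _),
        Set.mem_mul] at haT
      obtain ⟨v, hv, w, hw, hvw⟩ := haT
      rcases hs.mem_zpowers.mp hw with e | e
      · left
        rw [← map_one π, πeq]
        rw [e, mul_one] at hvw
        simpa [← hvw] using hv
      · right
        show π a = π z0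
        rw [πeq]
        show (a : G)⁻¹ * z ∈ U
        rw [← hvw, e, mul_inv_rev, hs.inv_z, ← hs.central _ (E.inv_mem (hT.1 (hUT hv))),
          mul_assoc, hs.sq, mul_one]
        exact U.inv_mem hv
    · refine eq_bot_iff.mpr ?_
      rintro _ ⟨⟨a, ha, rfl⟩, ⟨b, hb, hbe⟩⟩
      rw [Subgroup.mem_bot]
      have hmem := (πeq a b).mp hbe.symm
      have ha : (a : G) ∈ E0 := ha
      have hb' : (b : G) ∈ E0 := by
        have := E0.mul_mem ha (hTE0 (hUT hmem))
        rwa [mul_inv_cancel_left] at this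
      have : (b : G) ∈ E ⊓ H := ⟨hE0i.1 hb', hb⟩
      rw [hd, Subgroup.mem_bot] at this
      rw [← hbe, show b = 1 from Subtype.ext this, map_one]
    · refine hh.odd.of_dvd_nat ?_
      refine (Subgroup.card_map_dvd _ _).trans ?_
      rw [Nat.card_congr (Subgroup.subgroupOfEquivOfLe hKL0).toEquiv]
    · rintro _ ⟨a, ha, rfl⟩ hab
      have hfix : ∀ k ∈ K, k * (a : G) * k⁻¹ * (a : G)⁻¹ ∈ U := by
        intro k hk
        have e := hab (π ⟨k, hKL0 hk⟩) ⟨_, hk, rfl⟩
        rw [← map_mul, ← map_mul, eq_comm, πeq] at e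
        have e' : ((a : G) * k)⁻¹ * (k * a) ∈ U := e
        have h2 := conj_mem_of_le_normalizer hL0U
          (L0.mul_mem a.2 (hKL0 hk)) e'
        convert h2 using 1
        group
      obtain ⟨c, hc, hca⟩ := Cfsg.Agent.Grp.exists_fixed_rep K E0 U (hh.le.trans hE0i.2)
        (eq_bot_iff.mpr (fun x hx => hd ▸ ⟨hE0i.1 hx.2, hh.le hx.1⟩))
        (hh.coprime (hUT.trans hT.1))
        (hsolv.imp_right fun h => Cfsg.Agent.Grp.isSolvable_of_le hUT h)
        (hUT.trans hTE0) (le_sup_left.trans hL0U) ((hKL0).trans hL0U) ha hfix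
      rcases hh.fix c (hE0i.1 hc.1) (fun k hk => Subgroup.mem_centralizer_iff.mp hc.2 k hk)
        with e | e
      · left; rw [← map_one π, πeq]; simpa [e] using hca
      · right
        show π a = π z0
        rw [πeq]
        simpa [e] using hca
  have hL0card : Nat.card ↥L0 = Nat.card E0 * Nat.card H :=
    card_sup hE0i.2 (eq_bot_iff.mpr (hd ▸ inf_le_inf_right H hE0i.1))
  have hLcard : Nat.card ↥(E ⊔ H) = Nat.card E * Nat.card H := card_sup hn hd
  have hlt : Nat.card ↥(E' ⊔ H') < Nat.card ↥(E ⊔ H) := by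
    have h1 : Nat.card (↥L0 ⧸ U.subgroupOf L0) * Nat.card U = Nat.card ↥L0 := by
      rw [← Nat.card_congr (Subgroup.subgroupOfEquivOfLe hUL0).toEquiv]
      exact (Subgroup.card_eq_card_quotient_mul_card_subgroup _).symm
    have h2 := Subgroup.card_le_card_group (E' ⊔ H')
    have h3 : Nat.card ↥L0 ≤ Nat.card ↥(E ⊔ H) :=
      Nat.le_of_dvd Nat.card_pos (Subgroup.card_dvd_of_le hL0L)
    have h4 : 0 < Nat.card (↥L0 ⧸ U.subgroupOf L0) := Nat.card_pos
    nlinarith
  obtain ⟨χ', hχ', hf'⟩ := ih _ E' H' K' z' hyp' hlt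
  obtain ⟨d0, hd0, hd0c⟩ := hyp'.sym.faith_degree hf'
  rw [map_one] at hd0
  have hland : ∀ x : ↥L0, π x ∈ E' ⊔ H' := fun x => by
    obtain ⟨e, he, h, h', hx⟩ := (mem_sup_iff hE0i.2).mp x.2
    rw [show x = ⟨e, Subgroup.mem_sup_left he⟩ * ⟨h, Subgroup.mem_sup_right h'⟩ from
      Subtype.ext hx.symm, map_mul]
    exact Subgroup.mul_mem_sup (Subgroup.mem_map_of_mem _ he) (Subgroup.mem_map_of_mem _ h')
  let φ : ↥L0 →* ↥(E' ⊔ H') := π.codRestrict _ hland
  haveI := Fintype.ofFinite ↥(E ⊔ H)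
  let J : Subgroup ↥(E ⊔ H) := L0.subgroupOf (E ⊔ H)
  let eJ : ↥J ≃* ↥L0 := Subgroup.subgroupOfEquivOfLe hL0L
  let θJ : ↥J → ℂ := fun x => χ' (φ (eJ x))
  have hθJ : IsCharacter ↥J θJ := IsChar.comp (φ.comp eJ.toMonoidHom) hχ'
  have hχ : IsCharacter ↥(E ⊔ H) (indFun J θJ) := isCharacter_indFun J hθJ
  have hidx : J.index * Nat.card E0 = Nat.card E := by
    have h1 := Cfsg.Agent.Grp.card_mul_relIndex hL0L
    rw [hL0card, hLcard] at h1
    refine Nat.eq_of_mul_eq_mul_right (Nat.card_pos (α := H)) ?_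
    rw [show J.index = L0.relIndex (E ⊔ H) from rfl, ← h1]; ring
  have hpair : Nat.card E * 2 = Nat.card T * Nat.card E0 := by
    have h1 := hs.pairing (X := E) (Y := T) le_rfl hT.1
    have h2 : T ⊓ Subgroup.centralizer (E : Set G) = Subgroup.zpowers z := by
      refine le_antisymm (fun a ha => hs.mem_zpowers.mpr (hs.center a (hT.1 ha.1)
        fun b hb => (Subgroup.mem_centralizer_iff.mp ha.2 b hb).symm)) ?_
      rw [Subgroup.zpowers_le]
      exact ⟨hzT, Subgroup.mem_centralizer_iff.mpr fun m hm => hs.central m hm⟩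
    rw [h2, hs.card_zpowers] at h1
    exact h1
  have hidxU : J.index = Nat.card U := by
    refine Nat.eq_of_mul_eq_mul_right (Nat.card_pos (α := E0)) ?_
    refine Nat.eq_of_mul_eq_mul_right (by norm_num : 0 < 2) ?_
    rw [hidx, hpair, hTcard]; ring
  have hE'card : Nat.card E' * Nat.card U = Nat.card E0 := by
    let ψ : ↥E0 →* ↥L0 ⧸ U.subgroupOf L0 := π.comp (Subgroup.inclusion le_sup_left)
    have hr : ψ.range = E' := by
      ext q
      constructor
      · rintro ⟨a, rfl⟩; exact ⟨_, a.2, rfl⟩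
      · rintro ⟨a, ha, rfl⟩; exact ⟨⟨a, ha⟩, rfl⟩
    have hk : ψ.ker = U.subgroupOf E0 := by
      ext a
      rw [MonoidHom.mem_ker, Subgroup.mem_subgroupOf]
      show π _ = 1 ↔ _
      rw [← map_one π, eq_comm, πeq]
      simp
    have h1 := Subgroup.card_mul_index ψ.ker
    rw [Subgroup.index_ker, hr, hk,
      Nat.card_congr (Subgroup.subgroupOfEquivOfLe (hUT.trans hTE0)).toEquiv, mul_comm] at h1
    exact h1
  have hv1 : indFun J θJ 1 = ((Nat.card U * d0 : ℕ) : ℂ) := by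
    rw [indFun_one_eq, hidxU, Nat.cast_mul]
    congr 1
  refine ⟨_, hχ, hs.faith_of_char (IsChar.comp (Subgroup.inclusion le_sup_left) hχ) ?_
    (d := Nat.card U * d0) (by rw [map_one]; exact hv1) ?_⟩
  · intro x hx
    rw [map_one, hv1]
    have hwJ : Subgroup.inclusion le_sup_left x ∈ J := by
      show ((x : G)) ∈ L0
      rw [hx]; exact z0.2
    rw [indFun_central J θJ (fun y => Subtype.ext (by
      show (y : G) * (x : G) = (x : G) * y
      rw [hx]; exact hh.sup_comm_z y.2)) hwJ, hidxU]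
    have : θJ ⟨_, hwJ⟩ = -(d0 : ℂ) := by
      show χ' (φ (eJ ⟨_, hwJ⟩)) = _
      rw [show φ (eJ ⟨_, hwJ⟩) = Subgroup.inclusion le_sup_left (⟨z', hyp'.sym.mem⟩ : ↥E') from
        Subtype.ext (congrArg π (Subtype.ext hx))]
      have := hf'.2 ⟨z', hyp'.sym.mem⟩ rfl
      simp only [map_one] at this
      rw [this, hd0]
    rw [this, Nat.cast_mul]; ring
  · calc 2 * (Nat.card U * d0) ^ 2 = Nat.card U * (Nat.card E' * Nat.card U) := by
          rw [← hd0c]; ring
      _ = Nat.card U * Nat.card E0 := by rw [hE'card]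
      _ = Nat.card E := by rw [← hidxU]; exact hidx

/-- An invariant abelian subgroup beyond the centre gives the extension. -/
theorem good_of_singular (hh : Hyp E H K z) (ih : Below.{u} (Nat.card ↥(E ⊔ H))) {T : Subgroup G}
    (hT : Inv E H T) (habel : ∀ a ∈ T, ∀ b ∈ T, a * b = b * a) (hzT : z ∈ T)
    (hne : ∃ a ∈ T, a ≠ 1 ∧ a ≠ z) : Good E H z := by
  classical
  haveI := Fintype.ofFinite (Subgroup G)
  obtain ⟨M, hM, hmax⟩ := (Finset.univ.filter fun S : Subgroup G =>
      Inv E H S ∧ (∀ a ∈ S, ∀ b ∈ S, a * b = b * a) ∧ T ≤ S).exists_max_image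
    (fun S => Nat.card S) ⟨T, Finset.mem_filter.mpr ⟨Finset.mem_univ _, hT, habel, le_rfl⟩⟩
  simp only [Finset.mem_filter, Finset.mem_univ, true_and] at hM hmax
  obtain ⟨a, ha, hne'⟩ := hne
  exact good_of_maximal hh ih hM.1 hM.2.1 (hM.2.2 hzT) ⟨a, hM.2.2 ha, hne'⟩ fun T' h1 h2 h3 =>
    (Subgroup.eq_of_le_of_card_ge h3 (hmax T' ⟨h1, h2, hM.2.2.trans h3⟩)).ge

end Cfsg.Agent.SympExt
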