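import Cfsg.Agent.Lib.Char.SympExt.Basic
import Cfsg.Agent.Lib.Char.ExtendMain
import Cfsg.Agent.Lib.Char.AlperinBlocks
import Cfsg.Agent.Lib.Char.Induce
import Cfsg.Agent.Lib.Grp.CoprimeAbelian

/-!
The settings for extending the faithful character of a symplectic group, and the ways to build
extensions: a subgroup of odd index, a cyclic step, and a central product.
-/

set_option autoImplicit false

namespace Cfsg.Agent.SympExt

open Cfsg
open Cfsg.Agent.Char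
open scoped commutatorElement

universe u

variable {G : Type u} [Group G]

theorem le_normalizer_of_conj {A C : Subgroup G} (h : ∀ a ∈ A, ∀ x ∈ C, a * x * a⁻¹ ∈ C) :
    A ≤ Subgroup.normalizer (C : Set G) := fun a ha => Subgroup.mem_normalizer_iff.mpr fun x =>
  ⟨h a ha x, fun hx => by simpa [mul_assoc] using h a⁻¹ (inv_mem ha) _ hx⟩

theorem conj_mem_of_le_normalizer {A C : Subgroup G} (h : A ≤ Subgroup.normalizer (C : Set G))
    {a x : G} (ha : a ∈ A) (hx : x ∈ C) : a * x * a⁻¹ ∈ C :=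
  (Subgroup.mem_normalizer_iff.mp (h ha) x).mp hx

theorem conj_mem_of_le_normalizer' {A C : Subgroup G} (h : A ≤ Subgroup.normalizer (C : Set G))
    {a x : G} (ha : a ∈ A) (hx : x ∈ C) : a⁻¹ * x * a ∈ C := by
  simpa using conj_mem_of_le_normalizer h (inv_mem ha) hx

/-- The setting: a group acting on a symplectic group with an odd normal subgroup fixing only the centre. -/
structure Hyp (E H K : Subgroup G) (z : G) : Prop where
  sym : Sym E z
  norm : H ≤ Subgroup.normalizer (E : Set G)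
  disj : E ⊓ H = ⊥
  le : K ≤ H
  normK : H ≤ Subgroup.normalizer (K : Set G)
  odd : Odd (Nat.card K)
  fix : ∀ a ∈ E, (∀ k ∈ K, k * a = a * k) → a = 1 ∨ a = z

/-- An invariant subgroup. -/
def Inv (E H M : Subgroup G) : Prop := M ≤ E ∧ H ≤ Subgroup.normalizer (M : Set G)

/-- The faithful character extends to the product. -/
def Good (E H : Subgroup G) (z : G) : Prop :=
  ∃ χ : ↥(E ⊔ H) → ℂ, IsCharacter ↥(E ⊔ H) χ ∧
    Faith E z (fun x : ↥E => χ (Subgroup.inclusion le_sup_left x))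

variable {E H K : Subgroup G} {z : G}

theorem mem_sup_iff (hn : H ≤ Subgroup.normalizer (E : Set G)) {x : G} :
    x ∈ E ⊔ H ↔ ∃ e ∈ E, ∃ h ∈ H, e * h = x := by
  rw [← SetLike.mem_coe, Subgroup.coe_mul_of_right_le_normalizer_left E H hn]
  exact Set.mem_mul

theorem Hyp.z_comm (hh : Hyp E H K z) {h : G} (h' : h ∈ H) : h * z = z * h := by
  have hw : h * z * h⁻¹ ∈ E := conj_mem_of_le_normalizer hh.norm h' hh.sym.mem
  rcases hh.sym.center _ hw (fun b hb => by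
    have e := hh.sym.central _ (conj_mem_of_le_normalizer' hh.norm h' hb)
    calc h * z * h⁻¹ * b = h * (z * (h⁻¹ * b * h)) * h⁻¹ := by group
      _ = h * ((h⁻¹ * b * h) * z) * h⁻¹ := by rw [e]
      _ = b * (h * z * h⁻¹) := by group) with e | e
  · rw [mul_inv_eq_one, mul_eq_left] at e
    exact absurd e hh.sym.ne_one
  · exact mul_inv_eq_iff_eq_mul.mp e

theorem Hyp.sup_comm_z (hh : Hyp E H K z) {x : G} (hx : x ∈ E ⊔ H) : x * z = z * x := by
  obtain ⟨e, he, h, h', rfl⟩ := (mem_sup_iff hh.norm).mp hx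
  rw [mul_assoc, hh.z_comm h', ← mul_assoc, hh.sym.central e he, mul_assoc]

theorem Hyp.norm_zpowers (hh : Hyp E H K z) :
    H ≤ Subgroup.normalizer (Subgroup.zpowers z : Set G) :=
  le_normalizer_of_conj fun h h' x hx => by
    rcases hh.sym.mem_zpowers.mp hx with rfl | rfl
    · simp
    · rw [hh.z_comm h', mul_inv_cancel_right]; exact Subgroup.mem_zpowers _

theorem Hyp.sub (hh : Hyp E H K z) {M H' : Subgroup G} (hM : Inv E H' M) (hs : Sym M z)
    (hKH' : K ≤ H') (hle : H' ≤ H) : Hyp M H' K z where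
  sym := hs
  norm := hM.2
  disj := eq_bot_iff.mpr (hh.disj ▸ inf_le_inf hM.1 hle)
  le := hKH'
  normK := hle.trans hh.normK
  odd := hh.odd
  fix a ha h := hh.fix a (hM.1 ha) h

theorem eq_of_mul_eq (hd : E ⊓ H = ⊥) {e f h k : G} (he : e ∈ E) (hf : f ∈ E) (hh : h ∈ H)
    (hk : k ∈ H) (heq : e * h = f * k) : e = f ∧ h = k := by
  have h1 : f⁻¹ * e = k * h⁻¹ := by
    rw [eq_mul_inv_iff_mul_eq, mul_assoc, heq, inv_mul_cancel_left]
  have h2 : f⁻¹ * e ∈ E ⊓ H :=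
    ⟨E.mul_mem (E.inv_mem hf) he, h1 ▸ H.mul_mem hk (H.inv_mem hh)⟩
  rw [hd, Subgroup.mem_bot] at h2
  refine ⟨(inv_mul_eq_one.mp h2).symm, ?_⟩
  rw [h2] at h1
  exact (mul_inv_eq_one.mp h1.symm).symm

variable [Finite G]

theorem isIrr_res {L : Subgroup G} {χ : ↥L → ℂ} (hχ : IsCharacter ↥L χ) {H' : Type*} [Group H']
    [Finite H'] (φ : H' →* ↥L) (h : IsIrrCharacter H' (fun x => χ (φ x))) : IsIrrCharacter ↥L χ :=
  haveI := Fintype.ofFinite ↥L
  Alperin.isIrr_of_res hχ φ h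

theorem card_sup (hn : H ≤ Subgroup.normalizer (E : Set G)) (hd : E ⊓ H = ⊥) :
    Nat.card ↥(E ⊔ H) = Nat.card E * Nat.card H := by
  have := Cfsg.Agent.Grp.card_sup_mul_card_inf hn
  rw [inf_comm, hd, Subgroup.card_bot, mul_one, sup_comm, mul_comm (Nat.card H)] at this
  exact this

theorem Sym.two_pow (h : Sym E z) : ∃ n, Nat.card ↥E = 2 ^ n := by
  haveI : Fact (Nat.Prime 2) := ⟨Nat.prime_two⟩
  exact IsPGroup.iff_card.mp h.isPGroup

theorem normal_subgroupOf_sup (hn : H ≤ Subgroup.normalizer (E : Set G)) :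
    (E.subgroupOf (E ⊔ H)).Normal :=
  Subgroup.normal_subgroupOf_of_le_normalizer (sup_le Subgroup.le_normalizer hn)

/-- A subgroup of odd index of the complement suffices. -/
theorem Good.of_witness (hh : Hyp E H K z) {H' : Subgroup G} (hle : H' ≤ H)
    (hodd : Odd (H'.relIndex H)) (hg : Good E H' z) : Good E H z := by
  obtain ⟨χ', hχ', hf⟩ := hg
  have hLW : E ⊔ H' ≤ E ⊔ H := sup_le_sup_left hle E
  haveI := normal_subgroupOf_sup hh.norm
  let N : Subgroup ↥(E ⊔ H) := E.subgroupOf (E ⊔ H)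
  let eN : N ≃* ↥E := Subgroup.subgroupOfEquivOfLe le_sup_left
  let θ : N → ℂ := fun x => χ' (Subgroup.inclusion le_sup_left (eN x))
  have hθ : IsIrrCharacter N θ := IsIrr.comp_mulEquiv eN hf.1
  obtain ⟨d, hd, hd2⟩ := hh.sym.faith_degree hf
  have hθ1 : θ 1 = d := by
    show χ' (Subgroup.inclusion le_sup_left (eN 1)) = _
    rw [map_one eN]
    exact hd
  have hval := hh.sym.values (IsIrr.isCharacter hf.1) hf.2
  have hinv : ∀ (g : ↥(E ⊔ H)) (n : N),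
      θ ⟨g * n * g⁻¹, Subgroup.Normal.conj_mem ‹_› (n : ↥(E ⊔ H)) n.2 g⟩ = θ n := by
    classical
    intro g n
    refine (hval _).trans (Eq.trans ?_ (hval _).symm)
    have hgz := hh.sup_comm_z g.2
    have e1 : ((g : G) * ((n : ↥(E ⊔ H)) : G) * (g : G)⁻¹ = 1) ↔ ((n : ↥(E ⊔ H)) : G) = 1 :=
      ⟨fun e => by rwa [mul_inv_eq_one, mul_eq_left] at e, fun e => by simp [e]⟩
    have e2 : ((g : G) * ((n : ↥(E ⊔ H)) : G) * (g : G)⁻¹ = z) ↔ ((n : ↥(E ⊔ H)) : G) = z :=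
      ⟨fun e => mul_left_cancel (a := (g : G)) ((mul_inv_eq_iff_eq_mul.mp e).trans hgz.symm),
        fun e => by rw [e, hgz, mul_inv_cancel_right]⟩
    have c1 : ((eN ⟨g * (n : ↥(E ⊔ H)) * g⁻¹, Subgroup.Normal.conj_mem ‹_› (n : ↥(E ⊔ H)) n.2 g⟩ : ↥E) : G) =
        (g : G) * ((n : ↥(E ⊔ H)) : G) * (g : G)⁻¹ := rfl
    have c2 : ((eN n : ↥E) : G) = ((n : ↥(E ⊔ H)) : G) := rfl
    simp only [c1, c2, e1, e2]
  obtain ⟨m, hm⟩ := hh.sym.two_pow
  have hN2 : ∀ p : ℕ, p.Prime → p ≠ 2 → ¬ p ∣ d := fun p hp hp2 hdvd => by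
    have h1 : p ∣ 2 ^ m := hm ▸ hd2 ▸ (hdvd.trans (dvd_pow_self d two_ne_zero)).mul_left 2
    exact hp2 ((Nat.prime_dvd_prime_iff_eq hp Nat.prime_two).mp (hp.dvd_of_dvd_pow h1))
  have hidx : ((E ⊔ H').subgroupOf (E ⊔ H)).index = H'.relIndex H := by
    have h1 := Cfsg.Agent.Grp.card_mul_relIndex hLW
    have h2 := Cfsg.Agent.Grp.card_mul_relIndex hle
    rw [card_sup hh.norm hh.disj,
      card_sup (hle.trans hh.norm) (eq_bot_iff.mpr (hh.disj ▸ inf_le_inf_left E hle)), ← h2,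
      ← mul_assoc] at h1
    exact Nat.eq_of_mul_eq_mul_left (Nat.mul_pos Nat.card_pos Nat.card_pos) h1
  have hwit : ∀ p : ℕ, p.Prime → Ext.Witness (G := ↥(E ⊔ H)) θ d p := by
    intro p hp
    by_cases hp2 : p = 2
    · subst hp2
      let eW : ↥((E ⊔ H').subgroupOf (E ⊔ H)) ≃* ↥(E ⊔ H') := Subgroup.subgroupOfEquivOfLe hLW
      refine Or.inr (Or.inr ⟨(E ⊔ H').subgroupOf (E ⊔ H),
        fun x hx => (Subgroup.mem_sup_left hx : (x : G) ∈ E ⊔ H'), fun x => χ' (eW x), ?_, ?_, ?_⟩)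
      · rw [hidx]; exact Nat.odd_iff.mp hodd |> fun h h' => by omega
      · exact IsIrr.comp_mulEquiv eW (isIrr_res hχ' (Subgroup.inclusion le_sup_left) hf.1)
      · intro x; rfl
    · refine Or.inl ⟨hN2 p hp hp2, fun hdvd => ?_⟩
      have h4 : detChar θ ^ 4 = 1 := by
        obtain ⟨k, ρ, -, -, -, hdet⟩ := IsIrr.exists_rep hθ
        funext x
        rw [Pi.pow_apply, hdet, ← Units.val_pow_eq_pow_val, ← map_pow,
          show x ^ 4 = 1 from eN.injective (by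
            rw [map_pow, map_one]
            exact Subtype.ext (by rw [Subgroup.coe_pow]; exact hh.sym.pow_four (eN x).2)), map_one]
        rfl
      exact hp2 ((Nat.prime_dvd_prime_iff_eq hp Nat.prime_two).mp
        (hp.dvd_of_dvd_pow ((show p ∣ 2 ^ 2 from hdvd.trans (orderOf_dvd_of_pow_eq_one h4)))))
  obtain ⟨χ, hχ, hres⟩ := Ext.exists_extension_of_witness hθ hinv hθ1 hwit
  refine ⟨χ, IsIrr.isCharacter hχ, ?_⟩
  have e : (fun x : ↥E => χ (Subgroup.inclusion le_sup_left x)) =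
      fun x : ↥E => χ' (Subgroup.inclusion le_sup_left x) :=
    funext fun x => hres ⟨⟨x, Subgroup.mem_sup_left x.2⟩, x.2⟩
  rw [e]
  exact hf

/-- A character invariant under a cyclic step extends. -/
theorem Good.of_cyclic (hn0 : H ≤ Subgroup.normalizer (E : Set G)) {A : Subgroup G} (hle : A ≤ H)
    (hAn : H ≤ Subgroup.normalizer (A : Set G)) {t : G} (ht : t ∈ H)
    (hcyc : ∀ h ∈ H, ∃ i : ℤ, (t ^ i)⁻¹ * h ∈ A) {χ : ↥(E ⊔ A) → ℂ}
    (hχ : IsCharacter ↥(E ⊔ A) χ)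
    (hf : Faith E z (fun x : ↥E => χ (Subgroup.inclusion le_sup_left x)))
    (hinv : ∀ h ∈ H, ∀ (x : G) (hx : x ∈ E ⊔ A) (hx' : h * x * h⁻¹ ∈ E ⊔ A),
      χ ⟨h * x * h⁻¹, hx'⟩ = χ ⟨x, hx⟩) : Good E H z := by
  have hLW : E ⊔ A ≤ E ⊔ H := sup_le_sup_left hle E
  have hHn : H ≤ Subgroup.normalizer ((E ⊔ A : Subgroup G) : Set G) :=
    le_normalizer_of_conj fun h h' x hx => by
      obtain ⟨e, he, a, ha, rfl⟩ := (mem_sup_iff (hle.trans hn0)).mp hx
      rw [show h * (e * a) * h⁻¹ = (h * e * h⁻¹) * (h * a * h⁻¹) by group]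
      exact Subgroup.mul_mem_sup (conj_mem_of_le_normalizer hn0 h' he)
        (conj_mem_of_le_normalizer hAn h' ha)
  have hn : E ⊔ H ≤ Subgroup.normalizer ((E ⊔ A : Subgroup G) : Set G) :=
    sup_le (le_sup_left.trans Subgroup.le_normalizer) hHn
  haveI : ((E ⊔ A).subgroupOf (E ⊔ H)).Normal := Subgroup.normal_subgroupOf_of_le_normalizer hn
  let M : Subgroup ↥(E ⊔ H) := (E ⊔ A).subgroupOf (E ⊔ H)
  let eM : M ≃* ↥(E ⊔ A) := Subgroup.subgroupOfEquivOfLe hLW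
  have hμ : IsIrrCharacter M (fun x => χ (eM x)) :=
    IsIrr.comp_mulEquiv eM (isIrr_res hχ (Subgroup.inclusion le_sup_left) hf.1)
  obtain ⟨k, ρ, hρ, hρeq, -, -⟩ := IsIrr.exists_rep hμ
  haveI := hρ
  have hcl := IsChar.classFun hχ
  have hinv' : ∀ (g : ↥(E ⊔ H)) (m : M), ρ.character (conjEquivN M g m) = ρ.character m := by
    intro g m
    rw [conjEquivN_apply, hρeq]
    obtain ⟨e, he, h, h', hg⟩ := (mem_sup_iff hn0).mp g.2
    have hm : ((m : ↥(E ⊔ H)) : G) ∈ E ⊔ A := m.2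
    have hx' : h * ((m : ↥(E ⊔ H)) : G) * h⁻¹ ∈ E ⊔ A := conj_mem_of_le_normalizer hHn h' hm
    have h1 := hcl ⟨_, hx'⟩ ⟨e, Subgroup.mem_sup_left he⟩
    rw [hinv h h' _ hm hx'] at h1
    refine Eq.trans (congrArg χ (Subtype.ext ?_)) h1
    show (g : G) * ((m : ↥(E ⊔ H)) : G) * (g : G)⁻¹ = e * (h * ((m : ↥(E ⊔ H)) : G) * h⁻¹) * e⁻¹
    rw [← hg]; group
  have hcy : IsCyclic (↥(E ⊔ H) ⧸ M) := by
    refine ⟨⟨QuotientGroup.mk ⟨t, Subgroup.mem_sup_right ht⟩, fun q => ?_⟩⟩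
    induction q using QuotientGroup.induction_on with
    | _ x =>
      obtain ⟨e, he, h, h', hx⟩ := (mem_sup_iff hn0).mp x.2
      obtain ⟨i, hi⟩ := hcyc h h'
      refine ⟨i, ?_⟩
      show (QuotientGroup.mk (s := M) ⟨t, Subgroup.mem_sup_right ht⟩) ^ i = _
      rw [← QuotientGroup.mk_zpow, QuotientGroup.eq, Subgroup.mem_subgroupOf]
      simp only [Subgroup.coe_mul, InvMemClass.coe_inv, SubgroupClass.coe_zpow, ← hx]
      rw [show (t ^ i)⁻¹ * (e * h) = ((t ^ i)⁻¹ * e * t ^ i) * ((t ^ i)⁻¹ * h) by group]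
      exact Subgroup.mul_mem_sup (conj_mem_of_le_normalizer' hn0 (H.zpow_mem ht i) he) hi
  obtain ⟨ν, hν, hνres⟩ := Ext.exists_extension M ρ hinv' (Ext.cyclic_mem M ρ hinv' hcy)
  refine ⟨ν, IsIrr.isCharacter hν, ?_⟩
  have e : (fun x : ↥E => ν (Subgroup.inclusion le_sup_left x)) =
      fun x : ↥E => χ (Subgroup.inclusion le_sup_left x) :=
    funext fun x => (hνres ⟨⟨x, Subgroup.mem_sup_left x.2⟩, Subgroup.mem_sup_left x.2⟩).trans
      (congrFun hρeq _)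
  rw [e]
  exact hf

/-- The centre alone. -/
theorem Good.of_center (hh : Hyp E H K z) (hE : ∀ a ∈ E, a = 1 ∨ a = z) : Good E H z := by
  classical
  have hdec : ∀ x : ↥(E ⊔ H), (x : G) ∈ H ∨ z * (x : G) ∈ H := fun x => by
    obtain ⟨e, he, h, h', hx⟩ := (mem_sup_iff hh.norm).mp x.2
    rcases hE e he with rfl | rfl
    · left; rw [← hx, one_mul]; exact h'
    · right; rw [← hx, ← mul_assoc, hh.sym.sq, one_mul]; exact h'
  have hzH : z ∉ H := fun hz => hh.sym.ne_one (by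
    have : z ∈ E ⊓ H := ⟨hh.sym.mem, hz⟩
    rwa [hh.disj, Subgroup.mem_bot] at this)
  have hne : ∀ x : ↥(E ⊔ H), (x : G) ∈ H → z * (x : G) ∉ H := fun x hx hzx =>
    hzH (by simpa using H.mul_mem hzx (H.inv_mem hx))
  let l : ↥(E ⊔ H) →* ℂˣ :=
    { toFun := fun x => if (x : G) ∈ H then 1 else -1
      map_one' := if_pos H.one_mem
      map_mul' := fun x y => by
        have hzy : (x : G) * (z * y) = z * ((x : G) * y) := by
          rw [← mul_assoc, hh.sup_comm_z x.2, mul_assoc]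
        have hzz : z * (x : G) * (z * y) = (x : G) * y := by
          rw [mul_assoc, hzy, ← mul_assoc, hh.sym.sq, one_mul]
        rcases hdec x with hx | hx <;> rcases hdec y with hy | hy
        · rw [if_pos hx, if_pos hy, if_pos (show ((x * y : ↥(E ⊔ H)) : G) ∈ H from H.mul_mem hx hy),
            one_mul]
        · rw [if_pos hx, if_neg (fun h => hne y h hy), if_neg (fun h => ?_), one_mul]
          refine hne (x * y) h ?_
          have := H.mul_mem hx hy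
          rwa [hzy] at this
        · rw [if_neg (fun h => hne x h hx), if_pos hy, if_neg (fun h => ?_), mul_one]
          refine hne (x * y) h ?_
          have := H.mul_mem hx hy
          rwa [mul_assoc] at this
        · rw [if_neg (fun h => hne x h hx), if_neg (fun h => hne y h hy), if_pos ?_, neg_one_mul,
            neg_neg]
          have := H.mul_mem hx hy
          rwa [hzz] at this }
  refine ⟨fun x => (l x : ℂ), IsIrr.isCharacter (isIrr_linear l), ?_⟩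
  have h2 : Nat.card ↥E = 2 := by
    rw [← hh.sym.card_zpowers]
    congr 1
    exact congrArg (fun S : Subgroup G => ↥S)
      (le_antisymm (fun a ha => hh.sym.mem_zpowers.mpr (hE a ha)) hh.sym.zpowers_le)
  refine hh.sym.faith_of_char (IsIrr.isCharacter (isIrr_linear (l.comp (Subgroup.inclusion le_sup_left))))
    (fun x hx => ?_) (d := 1) ?_ (by rw [h2]; norm_num)
  · have h1 : l (Subgroup.inclusion le_sup_left x) = -1 := if_neg (fun h => hzH (hx ▸ h))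
    show (l (Subgroup.inclusion le_sup_left x) : ℂ) = -(l (Subgroup.inclusion le_sup_left 1) : ℂ)
    rw [h1, map_one, map_one]; simp
  · show (l (Subgroup.inclusion le_sup_left 1) : ℂ) = _
    simp

/-- Two elementwise commuting invariant factors. -/
theorem product (hh : Hyp E H K z) {E1 E2 : Subgroup G} (h1 : Inv E H E1) (h2 : Inv E H E2)
    (s1 : Sym E1 z) (s2 : Sym E2 z) (hc : ∀ a ∈ E1, ∀ b ∈ E2, a * b = b * a)
    (hsup : E1 ⊔ E2 = E) {χ1 : ↥(E1 ⊔ H) → ℂ} (hχ1 : IsCharacter ↥(E1 ⊔ H) χ1)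
    (hf1 : Faith E1 z (fun x : ↥E1 => χ1 (Subgroup.inclusion le_sup_left x)))
    {χ2 : ↥(E2 ⊔ H) → ℂ} (hχ2 : IsCharacter ↥(E2 ⊔ H) χ2)
    (hf2 : Faith E2 z (fun x : ↥E2 => χ2 (Subgroup.inclusion le_sup_left x))) :
    ∃ χ : ↥(E ⊔ H) → ℂ, IsCharacter ↥(E ⊔ H) χ ∧
      Faith E z (fun x : ↥E => χ (Subgroup.inclusion le_sup_left x)) ∧
      ∀ (a b h : G) (ha : a ∈ E1) (hb : b ∈ E2) (h' : h ∈ H) (hx : a * b * h ∈ E ⊔ H),
        χ ⟨a * b * h, hx⟩ = χ1 ⟨a * h, Subgroup.mul_mem_sup ha h'⟩ *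
          χ2 ⟨b * h, Subgroup.mul_mem_sup hb h'⟩ := by
  classical
  have hE2n : E1 ≤ Subgroup.normalizer (E2 : Set G) := le_normalizer_of_conj fun a ha b hb => by
    rw [hc a ha b hb, mul_inv_cancel_right]; exact hb
  have hinf : E1 ⊓ E2 = Subgroup.zpowers z := by
    refine le_antisymm (fun a ha => s1.mem_zpowers.mpr (hh.sym.center a (h1.1 ha.1) fun b hb => ?_)) ?_
    · rw [← hsup, ← SetLike.mem_coe, Subgroup.coe_mul_of_left_le_normalizer_right E1 E2 hE2n,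
        Set.mem_mul] at hb
      obtain ⟨p, hp, q, hq, rfl⟩ := hb
      rw [← mul_assoc, ← hc p hp a ha.2, mul_assoc, hc a ha.1 q hq, ← mul_assoc]
    · rw [Subgroup.zpowers_le]; exact ⟨s1.mem, s2.mem⟩
  have hd1 : E1 ⊓ H = ⊥ := eq_bot_iff.mpr (hh.disj ▸ inf_le_inf_right H h1.1)
  have hd2 : E2 ⊓ H = ⊥ := eq_bot_iff.mpr (hh.disj ▸ inf_le_inf_right H h2.1)
  have hconjE : ∀ x ∈ E ⊔ H, ∀ e ∈ E, x⁻¹ * e * x ∈ E := fun x hx e he =>
    conj_mem_of_le_normalizer' (sup_le Subgroup.le_normalizer hh.norm) hx he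
  have hle1 : E1 ⊔ H ≤ E ⊔ H := sup_le_sup_right h1.1 H
  have hle2 : E2 ⊔ H ≤ E ⊔ H := sup_le_sup_right h2.1 H
  let D : Subgroup (↥(E1 ⊔ H) × ↥(E2 ⊔ H)) :=
    { carrier := {p | (p.1 : G)⁻¹ * p.2 ∈ E}
      one_mem' := by simp
      mul_mem' := fun {p q} hp hq => by
        show ((p.1 : G) * q.1)⁻¹ * ((p.2 : G) * q.2) ∈ E
        rw [show ((p.1 : G) * q.1)⁻¹ * ((p.2 : G) * q.2) =
          ((q.1 : G)⁻¹ * ((p.1 : G)⁻¹ * p.2) * q.1) * ((q.1 : G)⁻¹ * q.2) by group]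
        exact E.mul_mem (hconjE _ (hle1 q.1.2) _ hp) hq
      inv_mem' := fun {p} hp => by
        show ((p.1 : G)⁻¹)⁻¹ * (p.2 : G)⁻¹ ∈ E
        have := hconjE _ ((E ⊔ H).inv_mem (hle1 p.1.2)) _ (E.inv_mem hp)
        rw [show ((p.1 : G)⁻¹)⁻¹ * ((p.1 : G)⁻¹ * p.2)⁻¹ * (p.1 : G)⁻¹ =
          ((p.1 : G)⁻¹)⁻¹ * (p.2 : G)⁻¹ by group] at this
        exact this }
  have hdec : ∀ p : D, ∃ a ∈ E1, ∃ b ∈ E2, ∃ h ∈ H,
      (p.1.1 : G) = a * h ∧ (p.1.2 : G) = b * h := by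
    rintro ⟨⟨x, y⟩, hp⟩
    obtain ⟨a, ha, h, h', hx⟩ := (mem_sup_iff h1.2).mp x.2
    obtain ⟨b, hb, k, k', hy⟩ := (mem_sup_iff h2.2).mp y.2
    refine ⟨a, ha, b, hb, h, h', hx.symm, ?_⟩
    have he : (x : G) * ((x : G)⁻¹ * y) * (x : G)⁻¹ ∈ E :=
      conj_mem_of_le_normalizer (sup_le Subgroup.le_normalizer hh.norm) (hle1 x.2) hp
    have e : ((x : G) * ((x : G)⁻¹ * y) * (x : G)⁻¹ * a) * h = b * k := by rw [hy, ← hx]; group
    rw [← (eq_of_mul_eq hh.disj (E.mul_mem he (h1.1 ha)) (h2.1 hb) h' k' e).2] at hy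
    exact hy.symm
  choose fa hfa fb hfb fh hfh hfx hfy using hdec
  have huniq : ∀ (p : D) {a b h : G}, a ∈ E1 → b ∈ E2 → h ∈ H → (p.1.1 : G) = a * h →
      (p.1.2 : G) = b * h → fa p = a ∧ fb p = b ∧ fh p = h := fun p a b h ha hb h' e1 e2 =>
    ⟨(eq_of_mul_eq hd1 (hfa p) ha (hfh p) h' ((hfx p).symm.trans e1)).1,
      (eq_of_mul_eq hd2 (hfb p) hb (hfh p) h' ((hfy p).symm.trans e2)).1,
      (eq_of_mul_eq hd1 (hfa p) ha (hfh p) h' ((hfx p).symm.trans e1)).2⟩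
  have hmemμ : ∀ p : D, fa p * fb p * fh p ∈ E ⊔ H := fun p =>
    Subgroup.mul_mem_sup (E.mul_mem (h1.1 (hfa p)) (h2.1 (hfb p))) (hfh p)
  let μ : D →* ↥(E ⊔ H) :=
    { toFun := fun p => ⟨fa p * fb p * fh p, hmemμ p⟩
      map_one' := by
        obtain ⟨ea, eb, eh⟩ := huniq 1 E1.one_mem E2.one_mem H.one_mem (by simp) (by simp)
        exact Subtype.ext (by simp [ea, eb, eh])
      map_mul' := fun p q => by
        have ca := conj_mem_of_le_normalizer h1.2 (hfh p) (hfa q)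
        have cb := conj_mem_of_le_normalizer h2.2 (hfh p) (hfb q)
        obtain ⟨ea, eb, eh⟩ := huniq (p * q) (E1.mul_mem (hfa p) ca) (E2.mul_mem (hfb p) cb)
          (H.mul_mem (hfh p) (hfh q))
          (show (p.1.1 : G) * (q.1.1 : G) = _ by rw [hfx p, hfx q]; group)
          (show (p.1.2 : G) * (q.1.2 : G) = _ by rw [hfy p, hfy q]; group)
        refine Subtype.ext ?_
        show fa (p * q) * fb (p * q) * fh (p * q) = (fa p * fb p * fh p) * (fa q * fb q * fh q)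
        rw [ea, eb, eh]
        have e := hc _ ca _ (hfb p)
        calc fa p * (fh p * fa q * (fh p)⁻¹) * (fb p * (fh p * fb q * (fh p)⁻¹)) * (fh p * fh q)
            = fa p * ((fh p * fa q * (fh p)⁻¹) * fb p) * (fh p * fb q * fh q) := by group
          _ = fa p * (fb p * (fh p * fa q * (fh p)⁻¹)) * (fh p * fb q * fh q) := by rw [e]
          _ = (fa p * fb p * fh p) * (fa q * fb q * fh q) := by group }
  have mk : ∀ {a b h : G}, a ∈ E1 → b ∈ E2 → h ∈ H →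
      ∃ p : D, fa p = a ∧ fb p = b ∧ fh p = h := fun {a b h} ha hb h' => by
    refine ⟨⟨(⟨a * h, Subgroup.mul_mem_sup ha h'⟩, ⟨b * h, Subgroup.mul_mem_sup hb h'⟩), ?_⟩,
      huniq _ ha hb h' rfl rfl⟩
    show (a * h)⁻¹ * (b * h) ∈ E
    rw [show (a * h)⁻¹ * (b * h) = h⁻¹ * (a⁻¹ * b) * h by group]
    exact conj_mem_of_le_normalizer' hh.norm h' (E.mul_mem (E.inv_mem (h1.1 ha)) (h2.1 hb))
  have hsurj : Function.Surjective μ := fun x => by
    obtain ⟨e, he, h, h', hx⟩ := (mem_sup_iff hh.norm).mp x.2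
    rw [← hsup, ← SetLike.mem_coe, Subgroup.coe_mul_of_left_le_normalizer_right E1 E2 hE2n,
      Set.mem_mul] at he
    obtain ⟨a, ha, b, hb, rfl⟩ := he
    obtain ⟨p, ea, eb, eh⟩ := mk ha hb h'
    exact ⟨p, Subtype.ext (by show fa p * fb p * fh p = _; rw [ea, eb, eh]; exact hx)⟩
  let π1 : D →* ↥(E1 ⊔ H) := (MonoidHom.fst _ _).comp D.subtype
  let π2 : D →* ↥(E2 ⊔ H) := (MonoidHom.snd _ _).comp D.subtype
  have hζ : IsCharacter D (fun p => χ1 (π1 p) * χ2 (π2 p)) :=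
    IsChar.mul (IsChar.comp π1 hχ1) (IsChar.comp π2 hχ2)
  have hker : ∀ p ∈ μ.ker, χ1 (π1 p) * χ2 (π2 p) = χ1 (π1 1) * χ2 (π2 1) := by
    intro p hp
    have e : fa p * fb p * fh p = 1 := congrArg Subtype.val (MonoidHom.mem_ker.mp hp)
    obtain ⟨e0, eh⟩ := eq_of_mul_eq hh.disj (E.mul_mem (h1.1 (hfa p)) (h2.1 (hfb p))) E.one_mem
      (hfh p) H.one_mem (by rw [e, one_mul])
    have hfain : fa p ∈ E1 ⊓ E2 := ⟨hfa p, by
      rw [eq_inv_of_mul_eq_one_left e0]; exact E2.inv_mem (hfb p)⟩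
    rw [hinf] at hfain
    rcases s1.mem_zpowers.mp hfain with ea | ea
    · have eb : fb p = 1 := by rwa [ea, one_mul] at e0
      rw [show π1 p = π1 1 from Subtype.ext (by show (p.1.1 : G) = 1; rw [hfx p, ea, eh, one_mul]),
        show π2 p = π2 1 from Subtype.ext (by show (p.1.2 : G) = 1; rw [hfy p, eb, eh, one_mul])]
    · have eb : fb p = z := by
        rw [ea] at e0
        rw [← hh.sym.inv_z]
        exact eq_inv_of_mul_eq_one_right e0
      have n1 : χ1 (π1 p) = -χ1 (π1 1) := by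
        rw [show π1 p = Subgroup.inclusion le_sup_left ⟨z, s1.mem⟩ from Subtype.ext (by
          show (p.1.1 : G) = z; rw [hfx p, ea, eh, mul_one]), map_one]
        simpa using hf1.2 ⟨z, s1.mem⟩ rfl
      have n2 : χ2 (π2 p) = -χ2 (π2 1) := by
        rw [show π2 p = Subgroup.inclusion le_sup_left ⟨z, s2.mem⟩ from Subtype.ext (by
          show (p.1.2 : G) = z; rw [hfy p, eb, eh, mul_one]), map_one]
        simpa using hf2.2 ⟨z, s2.mem⟩ rfl
      rw [n1, n2, neg_mul_neg]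
  obtain ⟨χ, hχ, hχμ⟩ := IsChar.exists_factor hζ μ hsurj hker
  have hval : ∀ (a b h : G) (ha : a ∈ E1) (hb : b ∈ E2) (h' : h ∈ H) (hx : a * b * h ∈ E ⊔ H),
      χ ⟨a * b * h, hx⟩ = χ1 ⟨a * h, Subgroup.mul_mem_sup ha h'⟩ *
        χ2 ⟨b * h, Subgroup.mul_mem_sup hb h'⟩ := fun a b h ha hb h' hx => by
    obtain ⟨p, ea, eb, eh⟩ := mk ha hb h'
    rw [show (⟨a * b * h, hx⟩ : ↥(E ⊔ H)) = μ p from Subtype.ext (by
      show _ = fa p * fb p * fh p; rw [ea, eb, eh]), hχμ p]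
    congr 2 <;> refine Subtype.ext ?_
    · show (p.1.1 : G) = a * h; rw [hfx p, ea, eh]
    · show (p.1.2 : G) = b * h; rw [hfy p, eb, eh]
  obtain ⟨d1, hd1', hd1c⟩ := s1.faith_degree hf1
  obtain ⟨d2, hd2', hd2c⟩ := s2.faith_degree hf2
  rw [map_one] at hd1' hd2'
  have h1' : (⟨1 * 1, Subgroup.mul_mem_sup E1.one_mem H.one_mem⟩ : ↥(E1 ⊔ H)) = 1 :=
    Subtype.ext (one_mul 1)
  have h2' : (⟨1 * 1, Subgroup.mul_mem_sup E2.one_mem H.one_mem⟩ : ↥(E2 ⊔ H)) = 1 :=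
    Subtype.ext (one_mul 1)
  have hone : χ 1 = ((d1 * d2 : ℕ) : ℂ) := by
    rw [show (1 : ↥(E ⊔ H)) = ⟨1 * 1 * 1, by simp⟩ from Subtype.ext (by simp),
      hval 1 1 1 E1.one_mem E2.one_mem H.one_mem, h1', h2', hd1', hd2', Nat.cast_mul]
  refine ⟨χ, hχ, hh.sym.faith_of_char (IsChar.comp (Subgroup.inclusion le_sup_left) hχ) ?_
    (d := d1 * d2) (by rw [map_one]; exact hone) ?_, hval⟩
  · intro x hx
    rw [map_one, hone]
    have hzmem : z * 1 * 1 ∈ E ⊔ H := by simpa using Subgroup.mem_sup_left hh.sym.mem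
    rw [show Subgroup.inclusion le_sup_left x = (⟨z * 1 * 1, hzmem⟩ : ↥(E ⊔ H)) from
      Subtype.ext (by simp [hx]), hval z 1 1 s1.mem E2.one_mem H.one_mem, h2', hd2',
      show (⟨z * 1, Subgroup.mul_mem_sup s1.mem H.one_mem⟩ : ↥(E1 ⊔ H)) =
        Subgroup.inclusion le_sup_left ⟨z, s1.mem⟩ from Subtype.ext (mul_one z)]
    have := hf1.2 ⟨z, s1.mem⟩ rfl
    simp only [map_one] at this
    rw [this, hd1', Nat.cast_mul, neg_mul]
  · have e := Cfsg.Agent.Grp.card_sup_mul_card_inf hE2n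
    rw [hsup, hinf, hh.sym.card_zpowers, ← hd1c, ← hd2c] at e
    rw [mul_pow]
    linarith [e]

end Cfsg.Agent.SympExt
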