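import Cfsg.Agent.Lib.Char.SympExt.Irreducible

/-!
A noncyclic action modulo the kernel: the group is a central product of two factors exchanged by an
element of the complement.
-/

set_option autoImplicit false

namespace Cfsg.Agent.SympExt

open Cfsg
open Cfsg.Agent.Char
open scoped commutatorElement Pointwise

universe u

variable {G : Type u} [Group G] [Finite G] {E H K : Subgroup G} {z : G}

theorem IsPGroup.exists_index_two {Q : Type*} [Group Q] [Finite Q] (hQ : IsPGroup 2 Q)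
    {A : Subgroup Q} (hA : A ≠ ⊤) : ∃ B : Subgroup Q, A ≤ B ∧ B.index = 2 := by
  haveI : Fact (Nat.Prime 2) := ⟨Nat.prime_two⟩
  obtain ⟨N, hN⟩ := IsPGroup.iff_card.mp hQ
  obtain ⟨n, hn⟩ := IsPGroup.iff_card.mp (hQ.to_subgroup A)
  have hlt : n < N := by
    refine (Nat.pow_lt_pow_iff_right (by norm_num : 1 < 2)).mp ?_
    rw [← hn, ← hN]
    refine lt_of_le_of_ne (Subgroup.card_le_card_group A) fun h => hA (Subgroup.eq_top_of_card_eq A h)
  obtain ⟨B, hB, hAB⟩ := Sylow.exists_subgroup_card_pow_prime_le 2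
    (m := N - 1) (hN ▸ pow_dvd_pow 2 (Nat.sub_le N 1)) A hn (by omega)
  refine ⟨B, hAB, Nat.eq_of_mul_eq_mul_left (Nat.card_pos (α := B)) ?_⟩
  rw [Subgroup.card_mul_index, hB, hN, ← pow_succ, Nat.sub_add_cancel (by omega)]

/-- Conjugates of a maximal centralised subgroup have commuting fixed subgroups. -/
theorem commute_conjugates (hh : Hyp E H K z) (hsolv : Group.IsSolvable K) {B : Subgroup G}
    (hBK : B ≤ K) (hKB : K ≤ Subgroup.normalizer (B : Set G))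
    (hBmax : ∀ B' : Subgroup G, B ≤ B' → B' ≤ K →
      (∃ e ∈ E, (e ≠ 1 ∧ e ≠ z) ∧ ∀ b ∈ B', b * e = e * b) → B' ≤ B)
    {s x y : G} (hs : s ∈ H) (hsB : s ∉ Subgroup.normalizer (B : Set G))
    (hx : x ∈ E ⊓ Subgroup.centralizer (B : Set G))
    (hy : y ∈ E ⊓ Subgroup.centralizer (B : Set G)) :
    (s * x * s⁻¹) * y = y * (s * x * s⁻¹) := by
  set C' : Subgroup G := E ⊓ Subgroup.centralizer ((MulAut.conj s • B : Subgroup G) : Set G) with hC'
  have hB'K : MulAut.conj s • B ≤ K := fun b hb => by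
    rw [Cfsg.Agent.Grp.mem_smul_conj] at hb
    have := conj_mem_of_le_normalizer hh.normK hs (hBK hb)
    rwa [show s * (s⁻¹ * b * s) * s⁻¹ = b by group] at this
  have hKB' : K ≤ Subgroup.normalizer ((MulAut.conj s • B : Subgroup G) : Set G) :=
    le_normalizer_of_conj fun k hk b hb => by
      rw [Cfsg.Agent.Grp.mem_smul_conj] at hb ⊢
      have := conj_mem_of_le_normalizer hKB (conj_mem_of_le_normalizer' hh.normK hs hk) hb
      rwa [show s⁻¹ * k * s * (s⁻¹ * b * s) * (s⁻¹ * k * s)⁻¹ = s⁻¹ * (k * b * k⁻¹) * s by group]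
        at this
  have hxC' : s * x * s⁻¹ ∈ C' :=
    ⟨conj_mem_of_le_normalizer hh.norm hs hx.1, Subgroup.mem_centralizer_iff.mpr fun b hb => by
      rw [SetLike.mem_coe, Cfsg.Agent.Grp.mem_smul_conj] at hb
      have e := Subgroup.mem_centralizer_iff.mp hx.2 _ hb
      calc b * (s * x * s⁻¹) = s * (s⁻¹ * b * s * x) * s⁻¹ := by group
        _ = s * (x * (s⁻¹ * b * s)) * s⁻¹ := by rw [e]
        _ = s * x * s⁻¹ * b := by group⟩
  have hBC' : B ≤ Subgroup.normalizer (C' : Set G) := by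
    refine le_normalizer_of_conj fun b hb c hc =>
      ⟨conj_mem_of_le_normalizer hh.norm (hh.le (hBK hb)) hc.1,
        conj_mem_of_le_normalizer (le_normalizer_centralizer hKB') (hBK hb) hc.2⟩
  have hcop : (Nat.card B).Coprime (Nat.card C') :=
    (hh.coprime (inf_le_left : C' ≤ E)).coprime_dvd_left (Subgroup.card_dvd_of_le hBK)
  have hfix : ∀ c ∈ C' ⊓ Subgroup.centralizer (B : Set G), c = 1 ∨ c = z := by
    intro c hc
    by_contra hcz
    rw [not_or] at hcz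
    have hle := hBmax (B ⊔ MulAut.conj s • B) le_sup_left (sup_le hBK hB'K)
      ⟨c, hc.1.1, hcz, fun b hb => by
        have hcl : B ⊔ MulAut.conj s • B ≤ Subgroup.centralizer ({c} : Set G) := by
          refine sup_le (fun d hd => ?_) (fun d hd => ?_)
          · rw [Subgroup.mem_centralizer_singleton_iff]
            exact (Subgroup.mem_centralizer_iff.mp hc.2 d hd).symm.symm
          · rw [Subgroup.mem_centralizer_singleton_iff]
            exact (Subgroup.mem_centralizer_iff.mp hc.1.2 d hd).symm.symm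
        exact Subgroup.mem_centralizer_singleton_iff.mp (hcl hb)⟩
    have hB'B : MulAut.conj s • B ≤ B := le_sup_right.trans hle
    refine hsB (Cfsg.Agent.Grp.mem_normalizer_iff_smul.mpr
      (Subgroup.eq_of_le_of_card_ge hB'B ?_))
    rw [Cfsg.Agent.Grp.card_conj_smul]
  obtain ⟨m, hm, c, hc, hmc⟩ := Cfsg.Agent.Grp.exists_commutator_mul_fixed B C' hBC' hcop
    (Or.inl (Cfsg.Agent.Grp.isSolvable_of_le hBK hsolv)) hxC'
  have hmy : m * y = y * m := by
    have hle : ⁅C', B⁆ ≤ Subgroup.centralizer ({y} : Set G) := by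
      rw [Subgroup.commutator_le]
      intro u hu b hb
      rw [Subgroup.mem_centralizer_singleton_iff]
      have hby : b * y * b⁻¹ = y := by
        rw [Subgroup.mem_centralizer_iff.mp hy.2 b hb, mul_inv_cancel_right]
      have hbH := hh.le (hBK hb)
      have h1 : ⁅y, b * u⁻¹ * b⁻¹⁆ = ⁅y, u⁻¹⁆ := by
        rw [show ⁅y, b * u⁻¹ * b⁻¹⁆ = b * ⁅b⁻¹ * y * b, u⁻¹⁆ * b⁻¹ by
          simp only [commutatorElement_def]; group,
          show b⁻¹ * y * b = y by rw [mul_assoc, ← Subgroup.mem_centralizer_iff.mp hy.2 b hb,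
            inv_mul_cancel_left]]
        rcases hh.sym.comm y hy.1 u⁻¹ (E.inv_mem hu.1) with e | e <;> rw [e]
        · simp
        · rw [hh.z_comm hbH, mul_inv_cancel_right]
      have h2 : ⁅y, ⁅u, b⁆⁆ = 1 := by
        rw [show ⁅u, b⁆ = u * (b * u⁻¹ * b⁻¹) by rw [commutatorElement_def]; group,
          hh.sym.comm_mul_right hy.1 hu.1 (conj_mem_of_le_normalizer hh.norm hbH (E.inv_mem hu.1)),
          h1, ← hh.sym.comm_mul_right hy.1 hu.1 (E.inv_mem hu.1), mul_inv_cancel,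
          commutatorElement_one_right]
      exact (commutatorElement_eq_one_iff_mul_comm.mp h2).symm
    exact Subgroup.mem_centralizer_singleton_iff.mp (hle hm)
  rcases hfix c hc with e | e <;> rw [hmc, e]
  · rwa [mul_one]
  · rw [mul_assoc, ← hh.sym.central y hy.1, ← mul_assoc, hmy, mul_assoc]

/-- The extension from a product of two factors exchanged by an element. -/
theorem good_of_swap (hh : Hyp E H K z) (ih : Below.{u} (Nat.card ↥(E ⊔ H)))
    {H1 E1 : Subgroup G} (hKH1 : K ≤ H1) (hH1 : H1 ≤ H)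
    (hH1n : H ≤ Subgroup.normalizer (H1 : Set G)) {t : G} (ht : t ∈ H) (ht2 : t * t ∈ H1)
    (hdec : ∀ h ∈ H, h ∈ H1 ∨ t⁻¹ * h ∈ H1) (hE1 : Inv E H1 E1) (hzE1 : z ∈ E1)
    (hsup : E1 ⊔ E1.comap (MulAut.conj t⁻¹).toMonoidHom = E)
    (hcomm : ∀ a ∈ E1, ∀ b ∈ E1.comap (MulAut.conj t⁻¹).toMonoidHom, a * b = b * a)
    (hne : E1 ≠ E) : Good E H z := by
  classical
  set E2 : Subgroup G := E1.comap (MulAut.conj t⁻¹).toMonoidHom with hE2
  have mem2 : ∀ x, x ∈ E2 ↔ t⁻¹ * x * t ∈ E1 := fun x => by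
    rw [hE2, Subgroup.mem_comap, MulEquiv.coe_toMonoidHom, MulAut.conj_apply, inv_inv]
  have ht2' : t * t ∈ H := hH1 ht2
  have hconj1 : ∀ h ∈ H1, t⁻¹ * h * t ∈ H1 := fun h h' => conj_mem_of_le_normalizer' hH1n ht h'
  have hE2le : E2 ≤ E := le_sup_right.trans hsup.le
  have hE2i : Inv E H1 E2 := ⟨hE2le, le_normalizer_of_conj fun h h' x hx => by
    rw [mem2] at hx ⊢
    have := conj_mem_of_le_normalizer hE1.2 (hconj1 h h') hx
    rwa [show t⁻¹ * h * t * (t⁻¹ * x * t) * (t⁻¹ * h * t)⁻¹ = t⁻¹ * (h * x * h⁻¹) * t by group]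
      at this⟩
  have hzt : t⁻¹ * z * t = z := by
    rw [mul_assoc, ← hh.z_comm ht, inv_mul_cancel_left]
  have hzE2 : z ∈ E2 := (mem2 z).mpr (by rw [hzt]; exact hzE1)
  have hset : ∀ e ∈ E, ∃ a ∈ E1, ∃ b ∈ E2, a * b = e := by
    intro e he
    have hn : E1 ≤ Subgroup.normalizer (E2 : Set G) := le_normalizer_of_conj fun a ha b hb => by
      rw [hcomm a ha b hb, mul_inv_cancel_right]; exact hb
    rw [← hsup, ← SetLike.mem_coe, Subgroup.coe_mul_of_left_le_normalizer_right E1 E2 hn,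
      Set.mem_mul] at he
    exact he
  have s1 : Sym E1 z := hh.sym.mono hE1.1 hzE1 fun a ha hab => hh.sym.center a (hE1.1 ha) fun e he => by
    obtain ⟨p, hp, q, hq, rfl⟩ := hset e he
    rw [← mul_assoc, hab p hp, mul_assoc, hcomm a ha q hq, ← mul_assoc]
  have s2 : Sym E2 z := hh.sym.mono hE2le hzE2 fun a ha hab => hh.sym.center a (hE2le ha) fun e he => by
    obtain ⟨p, hp, q, hq, rfl⟩ := hset e he
    rw [← mul_assoc, ← hcomm p hp a ha, mul_assoc, hab q hq, ← mul_assoc]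
  have hh1 : Hyp E1 H1 K z := hh.sub hE1 s1 hKH1 hH1
  have hlt : Nat.card ↥(E1 ⊔ H1) < Nat.card ↥(E ⊔ H) := by
    rw [card_sup hh1.norm hh1.disj, card_sup hh.norm hh.disj]
    have h1 : Nat.card E1 < Nat.card E := by
      refine lt_of_le_of_ne (Nat.le_of_dvd Nat.card_pos (Subgroup.card_dvd_of_le hE1.1)) fun h => ?_
      exact hne (Subgroup.eq_of_le_of_card_ge hE1.1 h.ge)
    have h2 : Nat.card H1 ≤ Nat.card H := Nat.le_of_dvd Nat.card_pos (Subgroup.card_dvd_of_le hH1)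
    calc Nat.card E1 * Nat.card H1 ≤ Nat.card E1 * Nat.card H := Nat.mul_le_mul_left _ h2
      _ < Nat.card E * Nat.card H := Nat.mul_lt_mul_of_pos_right h1 Nat.card_pos
  obtain ⟨χ1, hχ1, hf1⟩ := ih G E1 H1 K z hh1 hlt
  have hland : ∀ x : ↥(E2 ⊔ H1), t⁻¹ * (x : G) * t ∈ E1 ⊔ H1 := fun x => by
    obtain ⟨e, he, h, h', hx⟩ := (mem_sup_iff hE2i.2).mp x.2
    rw [← hx, show t⁻¹ * (e * h) * t = (t⁻¹ * e * t) * (t⁻¹ * h * t) by group]
    exact Subgroup.mul_mem_sup ((mem2 e).mp he) (hconj1 h h')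
  let γ : ↥(E2 ⊔ H1) →* ↥(E1 ⊔ H1) :=
    { toFun := fun x => ⟨t⁻¹ * (x : G) * t, hland x⟩
      map_one' := Subtype.ext (by simp)
      map_mul' := fun x y => Subtype.ext (by
        show t⁻¹ * ((x : G) * y) * t = (t⁻¹ * x * t) * (t⁻¹ * y * t); group) }
  have hχ2 : IsCharacter ↥(E2 ⊔ H1) (fun x => χ1 (γ x)) := IsChar.comp γ hχ1
  have hf2 : Faith E2 z (fun x : ↥E2 => χ1 (γ (Subgroup.inclusion le_sup_left x))) := by
    let δ : ↥E2 →* ↥E1 :=
      { toFun := fun x => ⟨t⁻¹ * (x : G) * t, (mem2 x).mp x.2⟩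
        map_one' := Subtype.ext (by simp)
        map_mul' := fun x y => Subtype.ext (by
          show t⁻¹ * ((x : G) * y) * t = (t⁻¹ * x * t) * (t⁻¹ * y * t); group) }
    have hδ : Function.Surjective δ := fun x => ⟨⟨t * x * t⁻¹, (mem2 _).mpr (by
      rw [show t⁻¹ * (t * (x : G) * t⁻¹) * t = x by group]; exact x.2)⟩,
      Subtype.ext (by show t⁻¹ * (t * (x : G) * t⁻¹) * t = x; group)⟩
    have he : (fun x : ↥E2 => χ1 (γ (Subgroup.inclusion le_sup_left x))) =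
        fun x => χ1 (Subgroup.inclusion le_sup_left (δ x)) := rfl
    rw [he]
    refine ⟨IsIrr.comp_surjective δ hδ hf1.1, fun x hx => ?_⟩
    show χ1 (Subgroup.inclusion le_sup_left (δ x)) = -χ1 (Subgroup.inclusion le_sup_left (δ 1))
    rw [map_one δ]
    exact hf1.2 (δ x) (by show t⁻¹ * (x : G) * t = z; rw [hx, hzt])
  obtain ⟨χ, hχ, hf, hval⟩ := product (hh.sub ⟨le_rfl, hH1.trans hh.norm⟩ hh.sym hKH1 hH1)
    hE1 hE2i s1 s2 hcomm hsup hχ1 hf1 hχ2 hf2


  have hclass : ∀ {p q : G} (hp : p ∈ E1 ⊔ H1) (hq : q ∈ E1 ⊔ H1) (g : G),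
      g ∈ H1 → g * p * g⁻¹ = q → χ1 ⟨q, hq⟩ = χ1 ⟨p, hp⟩ := fun {p q} hp hq g hg hpq => by
    subst hpq
    exact IsChar.classFun hχ1 ⟨p, hp⟩ ⟨g, Subgroup.mem_sup_right hg⟩
  have htinv : ∀ (x : G) (hx : x ∈ E ⊔ H1) (hx' : t * x * t⁻¹ ∈ E ⊔ H1),
      χ ⟨t * x * t⁻¹, hx'⟩ = χ ⟨x, hx⟩ := by
    intro x hx hx'
    obtain ⟨e, he, h, h', hxe⟩ := (mem_sup_iff (hH1.trans hh.norm)).mp hx
    obtain ⟨a, ha, b, hb, hab⟩ := hset e he
    have hth : t * h * t⁻¹ ∈ H1 := conj_mem_of_le_normalizer hH1n ht h'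
    have ha2 : t * a * t⁻¹ ∈ E2 := (mem2 _).mpr (by
      rw [show t⁻¹ * (t * a * t⁻¹) * t = a by group]; exact ha)
    have hb1 : t * b * t⁻¹ ∈ E1 := by
      have := conj_mem_of_le_normalizer hE1.2 ht2 ((mem2 b).mp hb)
      rwa [show t * t * (t⁻¹ * b * t) * (t * t)⁻¹ = t * b * t⁻¹ by group] at this
    have hx2 : t * x * t⁻¹ = (t * b * t⁻¹) * (t * a * t⁻¹) * (t * h * t⁻¹) := by
      rw [← hxe, ← hab, hcomm a ha b hb]; group
    have hmx : (t * b * t⁻¹) * (t * a * t⁻¹) * (t * h * t⁻¹) ∈ E ⊔ H1 := hx2 ▸ hx'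
    have hma : a * b * h ∈ E ⊔ H1 := by rw [hab, hxe]; exact hx
    rw [show (⟨t * x * t⁻¹, hx'⟩ : ↥(E ⊔ H1)) = ⟨_, hmx⟩ from Subtype.ext hx2,
      show (⟨x, hx⟩ : ↥(E ⊔ H1)) = ⟨a * b * h, hma⟩ from Subtype.ext (show x = a * b * h by rw [hab, hxe]),
      hval _ _ _ hb1 ha2 hth, hval _ _ _ ha hb h', mul_comm]
    congr 1
    · exact congrArg χ1 (Subtype.ext
        (by show t⁻¹ * (t * a * t⁻¹ * (t * h * t⁻¹)) * t = a * h; group))
    · exact hclass (hland ⟨_, Subgroup.mul_mem_sup hb h'⟩) _ (t * t) ht2 (by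
        show t * t * (t⁻¹ * (b * h) * t) * (t * t)⁻¹ = t * b * t⁻¹ * (t * h * t⁻¹); group)
  have hHn : H ≤ Subgroup.normalizer ((E ⊔ H1 : Subgroup G) : Set G) :=
    le_normalizer_of_conj fun h h' x hx => by
      obtain ⟨e, he, a, ha, rfl⟩ := (mem_sup_iff (hH1.trans hh.norm)).mp hx
      rw [show h * (e * a) * h⁻¹ = (h * e * h⁻¹) * (h * a * h⁻¹) by group]
      exact Subgroup.mul_mem_sup (conj_mem_of_le_normalizer hh.norm h' he)
        (conj_mem_of_le_normalizer hH1n h' ha)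
  refine Good.of_cyclic hh.norm hH1 hH1n ht (fun h h' => ?_) hχ hf (fun h h' x hx hx' => ?_)
  · rcases hdec h h' with e | e
    · exact ⟨0, by simpa using e⟩
    · exact ⟨1, by simpa using e⟩
  · have hin : ∀ (g : G), g ∈ H1 → ∀ (y : G) (hy : y ∈ E ⊔ H1) (hy' : g * y * g⁻¹ ∈ E ⊔ H1),
        χ ⟨g * y * g⁻¹, hy'⟩ = χ ⟨y, hy⟩ := fun g hg y hy hy' =>
      IsChar.classFun hχ ⟨y, hy⟩ ⟨g, Subgroup.mem_sup_right hg⟩
    rcases hdec h h' with e | e
    · exact hin h e x hx hx'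
    · have hy : (t⁻¹ * h) * x * (t⁻¹ * h)⁻¹ ∈ E ⊔ H1 :=
        conj_mem_of_le_normalizer hHn (hH1 e) hx
      have hty : t * ((t⁻¹ * h) * x * (t⁻¹ * h)⁻¹) * t⁻¹ = h * x * h⁻¹ := by group
      rw [show (⟨h * x * h⁻¹, hx'⟩ : ↥(E ⊔ H1)) = ⟨_, hty ▸ hx'⟩ from Subtype.ext hty.symm,
        htinv _ hy (hty ▸ hx'), hin _ e x hx hy]

/-- A noncyclic action modulo the kernel. -/
theorem good_of_noncyclicAction (hh : Hyp E H K z) (ih : Below.{u} (Nat.card ↥(E ⊔ H)))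
    (hsolv : Group.IsSolvable K)
    (hmin : ∀ M : Subgroup G, Inv E H M → z ∈ M → (∀ a ∈ M, a = 1 ∨ a = z) ∨ M = E)
    (hnt : ∃ a ∈ E, a ≠ 1 ∧ a ≠ z)
    (hmax : ∀ A : Subgroup G, A ≤ K → H ≤ Subgroup.normalizer (A : Set G) →
      A ≤ Subgroup.centralizer (E : Set G) ∨ A = K)
    (hKK : ⁅K, K⁆ ≤ Subgroup.centralizer (E : Set G))
    {P : Subgroup G} (hP : P ≤ H) (hP2 : IsPGroup 2 P) (hHeq : K ⊔ P = H)
    (hnc : ¬ ∃ k ∈ K, ∀ x ∈ K, ∃ i : ℤ, (k ^ i)⁻¹ * x ∈ K ⊓ Subgroup.centralizer (E : Set G)) :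
    Good E H z := by
  classical
  set K0 : Subgroup G := K ⊓ Subgroup.centralizer (E : Set G) with hK0
  have hK0n : H ≤ Subgroup.normalizer (K0 : Set G) := le_normalizer_of_conj fun h h' x hx =>
    ⟨conj_mem_of_le_normalizer hh.normK h' hx.1,
      conj_mem_of_le_normalizer (le_normalizer_centralizer hh.norm) h' hx.2⟩
  have hKK0 : ∀ a ∈ K, ∀ b ∈ K, ⁅a, b⁆ ∈ K0 := fun a ha b hb =>
    ⟨Subgroup.commutator_le_self K (Subgroup.commutator_mem_commutator ha hb),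
      hKK (Subgroup.commutator_mem_commutator ha hb)⟩
  -- some element outside the kernel fixes a non-central element
  obtain ⟨k, hk, hkK0, e, he, hez, hke⟩ : ∃ k ∈ K, k ∉ K0 ∧ ∃ e ∈ E, (e ≠ 1 ∧ e ≠ z) ∧
      k * e = e * k := by
    have hEK0 : E ≤ Subgroup.normalizer (K0 : Set G) := le_normalizer_of_conj fun a ha x hx => by
      rw [Subgroup.mem_centralizer_iff.mp hx.2 a ha, mul_inv_cancel_right]; exact hx
    have hZK0 : K0 ≤ Subgroup.normalizer (Subgroup.zpowers z : Set G) :=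
      (inf_le_left.trans hh.le).trans hh.norm_zpowers
    set W : Subgroup G := Subgroup.zpowers z ⊔ K0 with hW
    have hWL : W ≤ E ⊔ H := sup_le_sup hh.sym.zpowers_le (inf_le_left.trans hh.le)
    have hLW : E ⊔ H ≤ Subgroup.normalizer (W : Set G) := le_normalizer_of_conj fun g hg x hx => by
      obtain ⟨w, hw, c, hc, rfl⟩ := (mem_sup_iff hZK0).mp hx
      rw [show g * (w * c) * g⁻¹ = (g * w * g⁻¹) * (g * c * g⁻¹) by group]
      refine Subgroup.mul_mem_sup ?_ (conj_mem_of_le_normalizer (sup_le hEK0 hK0n) hg hc)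
      rcases hh.sym.mem_zpowers.mp hw with e | e <;> rw [e]
      · simp
      · rw [hh.sup_comm_z hg, mul_inv_cancel_right]; exact Subgroup.mem_zpowers z
    haveI : (W.subgroupOf (E ⊔ H)).Normal := Subgroup.normal_subgroupOf_of_le_normalizer hLW
    let π : ↥(E ⊔ H) →* ↥(E ⊔ H) ⧸ W.subgroupOf (E ⊔ H) := QuotientGroup.mk' _
    have πone : ∀ x, π x = 1 ↔ (x : G) ∈ W := fun x => QuotientGroup.eq_one_iff x
    have hWH : ∀ x ∈ W, x ∈ H → x ∈ K0 := fun x hx hxH => by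
      obtain ⟨w, hw, c, hc, rfl⟩ := (mem_sup_iff hZK0).mp hx
      have hwH : w ∈ E ⊓ H := ⟨hh.sym.zpowers_le hw,
        by simpa using H.mul_mem hxH (H.inv_mem (hh.le hc.1))⟩
      rw [hh.disj, Subgroup.mem_bot] at hwH
      rwa [hwH, one_mul]
    have hWE : ∀ x ∈ W, x ∈ E → x ∈ Subgroup.zpowers z := fun x hx hxE => by
      obtain ⟨w, hw, c, hc, rfl⟩ := (mem_sup_iff hZK0).mp hx
      have hcE : c ∈ E ⊓ H := ⟨by simpa using E.mul_mem (E.inv_mem (hh.sym.zpowers_le hw)) hxE,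
        hh.le hc.1⟩
      rw [hh.disj, Subgroup.mem_bot] at hcE
      rwa [hcE, mul_one]
    have hKL : K ≤ E ⊔ H := hh.le.trans le_sup_right
    let A := (K.subgroupOf (E ⊔ H)).map π
    let V := (E.subgroupOf (E ⊔ H)).map π
    haveI : IsMulCommutative A := ⟨⟨by
      rintro ⟨_, a, ha, rfl⟩ ⟨_, b, hb, rfl⟩
      refine Subtype.ext ?_
      show π a * π b = π b * π a
      rw [← commutatorElement_eq_one_iff_mul_comm, ← map_commutatorElement, πone]
      exact Subgroup.mem_sup_right (hKK0 _ ha _ hb)⟩⟩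
    haveI : IsMulCommutative V := ⟨⟨by
      rintro ⟨_, a, ha, rfl⟩ ⟨_, b, hb, rfl⟩
      refine Subtype.ext ?_
      show π a * π b = π b * π a
      rw [← commutatorElement_eq_one_iff_mul_comm, ← map_commutatorElement, πone]
      exact Subgroup.mem_sup_left (hh.sym.mem_zpowers.mpr (hh.sym.comm _ ha _ hb))⟩⟩
    have hV : V ≠ ⊥ := fun h => by
      obtain ⟨a, ha, hne⟩ := hnt
      have hmem : π ⟨a, Subgroup.mem_sup_left ha⟩ ∈ V := ⟨_, ha, rfl⟩
      rw [h, Subgroup.mem_bot, πone] at hmem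
      exact (hh.sym.mem_zpowers.mp (hWE a hmem ha)).elim hne.1 hne.2
    have hAV : A ≤ Subgroup.normalizer (V : Set _) := by
      refine le_normalizer_of_conj ?_
      rintro _ ⟨a, ha, rfl⟩ _ ⟨b, hb, rfl⟩
      rw [← map_inv, ← map_mul, ← map_mul]
      exact ⟨_, conj_mem_of_le_normalizer hh.norm (hh.le ha) hb, rfl⟩
    have hA : ¬ IsCyclic A := fun hc => hnc (by
      obtain ⟨g, hg⟩ := isCyclic_iff_exists_zpowers_eq_top.mp hc
      obtain ⟨k0, hk0, hk0g⟩ := g.2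
      refine ⟨k0, hk0, fun x hx => ?_⟩
      have hmem : (⟨π ⟨x, hKL hx⟩, ⟨_, hx, rfl⟩⟩ : A) ∈ Subgroup.zpowers g := by
        rw [hg]; exact Subgroup.mem_top _
      obtain ⟨i, hi⟩ := Subgroup.mem_zpowers_iff.mp hmem
      refine ⟨i, hWH _ ?_ (H.mul_mem (H.inv_mem (H.zpow_mem (hh.le hk0) i)) (hh.le hx))⟩
      have h1 : π ((k0 ^ i)⁻¹ * ⟨x, hKL hx⟩) = 1 := by
        rw [map_mul, map_inv, map_zpow, hk0g, inv_mul_eq_one]
        exact congrArg Subtype.val hi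
      exact (πone _).mp h1)
    obtain ⟨a, ⟨k, hk, rfl⟩, ha1, hfix⟩ := Cfsg.Agent.Grp.exists_centralizer_ne_bot A V hA hV hAV
    obtain ⟨_, ⟨⟨e, he, rfl⟩, hec⟩, hv1⟩ := (Subgroup.bot_or_exists_ne_one _).resolve_left hfix
    refine ⟨(k : G), hk, fun h => ha1 ((πone _).mpr (Subgroup.mem_sup_right h)), (e : G), he,
      ⟨fun h => hv1 ((πone _).mpr (by rw [h]; exact W.one_mem)),
        fun h => hv1 ((πone _).mpr (Subgroup.mem_sup_left (by rw [h]; exact Subgroup.mem_zpowers z)))⟩,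
      hh.conj_fix hk ?_⟩
    have h1 : π (k * e * k⁻¹ * e⁻¹) = 1 := by
      rw [map_mul, map_mul, map_mul, map_inv, map_inv,
        ← Subgroup.mem_centralizer_singleton_iff.mp hec, mul_inv_cancel_right, mul_inv_cancel]
    exact hWE _ ((πone _).mp h1)
      (E.mul_mem (conj_mem_of_le_normalizer hh.norm (hh.le hk) he) (E.inv_mem he))
  -- a maximal subgroup with more fixed points than the centre
  let Fix : Subgroup G → Prop := fun B => ∃ a ∈ E, (a ≠ 1 ∧ a ≠ z) ∧ ∀ b ∈ B, b * a = a * b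
  haveI := Fintype.ofFinite (Subgroup G)
  obtain ⟨B, hBmem, hBcard⟩ := (Finset.univ.filter fun B : Subgroup G =>
      K0 ≤ B ∧ B ≤ K ∧ ¬ B ≤ K0 ∧ Fix B).exists_max_image (fun B => Nat.card B)
    ⟨K0 ⊔ Subgroup.zpowers k, Finset.mem_filter.mpr ⟨Finset.mem_univ _, le_sup_left,
      sup_le inf_le_left (Subgroup.zpowers_le.mpr hk),
      fun h => hkK0 (h (Subgroup.mem_sup_right (Subgroup.mem_zpowers k))), e, he, hez, fun b hb => by
        have hle : K0 ⊔ Subgroup.zpowers k ≤ Subgroup.centralizer ({e} : Set G) := by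
          refine sup_le (fun d hd => ?_) (Subgroup.zpowers_le.mpr ?_)
          · rw [Subgroup.mem_centralizer_singleton_iff]
            exact (Subgroup.mem_centralizer_iff.mp hd.2 e he).symm
          · rw [Subgroup.mem_centralizer_singleton_iff]; exact hke
        exact Subgroup.mem_centralizer_singleton_iff.mp (hle hb)⟩⟩
  simp only [Finset.mem_filter, Finset.mem_univ, true_and] at hBmem hBcard
  obtain ⟨hK0B, hBK, hBnot, hBfix⟩ := hBmem
  have hBmax : ∀ B' : Subgroup G, B ≤ B' → B' ≤ K → Fix B' → B' ≤ B := fun B' h1 h2 h3 =>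
    (Subgroup.eq_of_le_of_card_ge h1
      (hBcard B' ⟨hK0B.trans h1, h2, fun h => hBnot (h1.trans h), h3⟩)).ge
  have hKB : K ≤ Subgroup.normalizer (B : Set G) := le_normalizer_of_conj fun a ha b hb => by
    rw [show a * b * a⁻¹ = ⁅a, b⁆ * b by rw [commutatorElement_def]; group]
    exact B.mul_mem (hK0B (hKK0 a ha b (hBK hb))) hb
  have hPB : (Subgroup.normalizer (B : Set G)).subgroupOf P ≠ ⊤ := fun h => by
    rw [Subgroup.subgroupOf_eq_top] at h
    rcases hmax B hBK (hHeq ▸ sup_le hKB h) with h1 | h1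
    · exact hBnot (le_inf hBK h1)
    · obtain ⟨a, ha, hne, hab⟩ := hBfix
      exact (hh.fix a ha fun x hx => hab x (h1.symm ▸ hx)).elim hne.1 hne.2
  obtain ⟨P1s, hP1B, hP1i⟩ := IsPGroup.exists_index_two hP2 hPB
  haveI : P1s.Normal := Subgroup.normal_of_index_eq_two hP1i
  obtain ⟨t, ht⟩ : ∃ t : P, t ∉ P1s := by
    by_contra hall
    push Not at hall
    have : P1s = ⊤ := eq_top_iff.mpr fun x _ => hall x
    rw [this, Subgroup.index_top] at hP1i
    omega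
  set P1 : Subgroup G := P1s.map P.subtype with hP1
  have memP1 : ∀ p : P, (p : G) ∈ P1 ↔ p ∈ P1s := fun p =>
    ⟨fun ⟨q, hq, hqp⟩ => (Subtype.ext hqp : q = p) ▸ hq, fun h => ⟨p, h, rfl⟩⟩
  have hP1P : P1 ≤ P := Subgroup.map_subtype_le _
  have hP1H : P1 ≤ H := hP1P.trans hP
  have hP1n : P ≤ Subgroup.normalizer (P1 : Set G) := by
    refine le_normalizer_of_conj ?_
    rintro r hr _ ⟨q, hq, rfl⟩
    exact ⟨⟨r, hr⟩ * q * ⟨r, hr⟩⁻¹, Subgroup.Normal.conj_mem inferInstance q hq _, rfl⟩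
  set C : Subgroup G := E ⊓ Subgroup.centralizer (B : Set G) with hC
  have hKC : K ≤ Subgroup.normalizer (C : Set G) := le_normalizer_of_conj fun a ha c hc =>
    ⟨conj_mem_of_le_normalizer hh.norm (hh.le ha) hc.1,
      conj_mem_of_le_normalizer (le_normalizer_centralizer hKB) ha hc.2⟩
  set E1 : Subgroup G := Subgroup.closure {x | ∃ p ∈ P1, ∃ c ∈ C, p * c * p⁻¹ = x} with hE1
  have gen : ∀ p ∈ P1, ∀ c ∈ C, p * c * p⁻¹ ∈ E1 := fun p hp c hc =>
    Subgroup.subset_closure ⟨p, hp, c, hc, rfl⟩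
  have hCE1 : C ≤ E1 := fun c hc => by simpa using gen 1 P1.one_mem c hc
  have hzC : z ∈ C := ⟨hh.sym.mem, Subgroup.mem_centralizer_iff.mpr fun b hb =>
    hh.z_comm (hh.le (hBK hb))⟩
  have hE1E : E1 ≤ E := (Subgroup.closure_le _).mpr (by
    rintro _ ⟨p, hp, c, hc, rfl⟩
    exact conj_mem_of_le_normalizer hh.norm (hP1H hp) hc.1)
  set H1 : Subgroup G := K ⊔ P1 with hH1
  have hH1H : H1 ≤ H := sup_le hh.le hP1H
  have hH1n : H ≤ Subgroup.normalizer (H1 : Set G) := by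
    have hP1K : P1 ≤ Subgroup.normalizer (K : Set G) := hP1H.trans hh.normK
    refine hHeq ▸ sup_le ((le_sup_left : K ≤ H1).trans Subgroup.le_normalizer)
      (le_normalizer_of_conj fun r hr x hx => ?_)
    obtain ⟨a, ha, p, hp, rfl⟩ := (mem_sup_iff hP1K).mp hx
    rw [show r * (a * p) * r⁻¹ = (r * a * r⁻¹) * (r * p * r⁻¹) by group]
    exact Subgroup.mul_mem_sup (conj_mem_of_le_normalizer hh.normK (hP hr) ha)
      (conj_mem_of_le_normalizer hP1n hr hp)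
  have hE1n : H1 ≤ Subgroup.normalizer (E1 : Set G) := by
    refine sup_le (le_normalizer_of_conj fun a ha x hx => conj_closure ?_ hx)
      (le_normalizer_of_conj fun r hr x hx => conj_closure ?_ hx)
    · rintro _ ⟨p, hp, c, hc, rfl⟩
      rw [show a * (p * c * p⁻¹) * a⁻¹ = p * ((p⁻¹ * a * p) * c * (p⁻¹ * a * p)⁻¹) * p⁻¹ by group]
      exact gen p hp _ (conj_mem_of_le_normalizer hKC (conj_mem_of_le_normalizer' hh.normK (hP1H hp) ha) hc)
    · rintro _ ⟨p, hp, c, hc, rfl⟩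
      rw [show r * (p * c * p⁻¹) * r⁻¹ = (r * p) * c * (r * p)⁻¹ by group]
      exact gen _ (P1.mul_mem hr hp) c hc
  have htH : (t : G) ∈ H := hP t.2
  have ht2 : (t : G) * t ∈ H1 := Subgroup.mem_sup_right
    ((memP1 (t * t)).mpr (Subgroup.mul_self_mem_of_index_two hP1i t))
  have hdec : ∀ h ∈ H, h ∈ H1 ∨ (t : G)⁻¹ * h ∈ H1 := by
    intro h h'
    rw [← hHeq] at h'
    obtain ⟨a, ha, p, hp, rfl⟩ := (mem_sup_iff (hP.trans hh.normK)).mp h'
    by_cases hp1 : (⟨p, hp⟩ : P) ∈ P1s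
    · exact Or.inl (Subgroup.mul_mem_sup ha ((memP1 ⟨p, hp⟩).mpr hp1))
    · right
      rw [show (t : G)⁻¹ * (a * p) = ((t : G)⁻¹ * a * t) * ((t : G)⁻¹ * p) by group]
      refine Subgroup.mul_mem_sup (conj_mem_of_le_normalizer' hh.normK htH ha) ((memP1 (t⁻¹ * ⟨p, hp⟩)).mpr ?_)
      rw [Subgroup.mul_mem_iff_of_index_two hP1i, inv_mem_iff]
      exact ⟨fun h => absurd h ht, fun h => absurd h hp1⟩
  have hgen2 : ∀ p ∈ P1, ∀ q ∈ P1, p⁻¹ * (t : G) * q ∈ H ∧
      p⁻¹ * (t : G) * q ∉ Subgroup.normalizer (B : Set G) := by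
    rintro _ ⟨p, hp, rfl⟩ _ ⟨q, hq, rfl⟩
    refine ⟨hP (p⁻¹ * t * q).2, fun h => ht ?_⟩
    have h1 : p⁻¹ * t * q ∈ P1s := hP1B h
    have h2 := P1s.mul_mem (P1s.mul_mem hp h1) (P1s.inv_mem hq)
    rwa [show p * (p⁻¹ * t * q) * q⁻¹ = t by group] at h2
  have hcomm : ∀ a ∈ E1, ∀ b ∈ E1.comap (MulAut.conj (t : G)⁻¹).toMonoidHom, a * b = b * a := by
    intro a ha b hb
    rw [Subgroup.mem_comap, MulEquiv.coe_toMonoidHom, MulAut.conj_apply, inv_inv] at hb
    suffices h : E1 ≤ Subgroup.centralizer ({b} : Set G) from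
      Subgroup.mem_centralizer_singleton_iff.mp (h ha)
    refine (Subgroup.closure_le _).mpr ?_
    rintro _ ⟨p, hp, c, hc, rfl⟩
    rw [SetLike.mem_coe, Subgroup.mem_centralizer_singleton_iff]
    have h2 : (t : G) * ((t : G)⁻¹ * b * t) * (t : G)⁻¹ ∈
        Subgroup.centralizer ({p * c * p⁻¹} : Set G) := by
      refine conj_closure ?_ hb
      rintro _ ⟨q, hq, d, hd, rfl⟩
      rw [Subgroup.mem_centralizer_singleton_iff]
      obtain ⟨hsH, hsB⟩ := hgen2 p hp q hq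
      have key := commute_conjugates hh hsolv hBK hKB hBmax hsH hsB hd hc
      calc (t : G) * (q * d * q⁻¹) * (t : G)⁻¹ * (p * c * p⁻¹)
          = p * ((p⁻¹ * t * q) * d * (p⁻¹ * t * q)⁻¹ * c) * p⁻¹ := by group
        _ = p * (c * ((p⁻¹ * t * q) * d * (p⁻¹ * t * q)⁻¹)) * p⁻¹ := by rw [key]
        _ = p * c * p⁻¹ * ((t : G) * (q * d * q⁻¹) * (t : G)⁻¹) := by group
    rw [Subgroup.mem_centralizer_singleton_iff,
      show (t : G) * ((t : G)⁻¹ * b * t) * (t : G)⁻¹ = b by group] at h2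
    exact h2.symm
  set E2 := E1.comap (MulAut.conj (t : G)⁻¹).toMonoidHom with hE2
  have mem2 : ∀ x, x ∈ E2 ↔ (t : G)⁻¹ * x * t ∈ E1 := fun x => by
    rw [hE2, Subgroup.mem_comap, MulEquiv.coe_toMonoidHom, MulAut.conj_apply, inv_inv]
  have hE2E : E2 ≤ E := fun x hx => by
    have := conj_mem_of_le_normalizer hh.norm htH (hE1E ((mem2 x).mp hx))
    rwa [show (t : G) * ((t : G)⁻¹ * x * t) * (t : G)⁻¹ = x by group] at this
  have hE2n : H1 ≤ Subgroup.normalizer (E2 : Set G) := le_normalizer_of_conj fun h h' x hx => by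
    rw [mem2] at hx ⊢
    have := conj_mem_of_le_normalizer hE1n (conj_mem_of_le_normalizer' hH1n htH h') hx
    rwa [show (t : G)⁻¹ * h * t * ((t : G)⁻¹ * x * t) * ((t : G)⁻¹ * h * t)⁻¹ =
      (t : G)⁻¹ * (h * x * h⁻¹) * t by group] at this
  obtain ⟨a0, ha0, ha0ne, ha0B⟩ := hBfix
  have ha0C : a0 ∈ C := ⟨ha0, Subgroup.mem_centralizer_iff.mpr fun b hb => ha0B b hb⟩
  have hsup : E1 ⊔ E2 = E := by
    refine (hmin (E1 ⊔ E2) ⟨sup_le hE1E hE2E, fun h h' => ?_⟩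
      (Subgroup.mem_sup_left (hCE1 hzC))).resolve_left fun hall =>
        (hall a0 (Subgroup.mem_sup_left (hCE1 ha0C))).elim ha0ne.1 ha0ne.2
    have hH1sup : ∀ g ∈ H1, g ∈ Subgroup.normalizer ((E1 ⊔ E2 : Subgroup G) : Set G) := fun g hg => by
      rw [Cfsg.Agent.Grp.mem_normalizer_iff_smul, Subgroup.smul_sup,
        Cfsg.Agent.Grp.normalizer_le_smul hE1n hg, Cfsg.Agent.Grp.normalizer_le_smul hE2n hg]
    have ht' : (t : G) ∈ Subgroup.normalizer ((E1 ⊔ E2 : Subgroup G) : Set G) := by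
      rw [Cfsg.Agent.Grp.mem_normalizer_iff_smul, Subgroup.smul_sup]
      have e1 : MulAut.conj (t : G) • E1 = E2 := by
        ext x; rw [Cfsg.Agent.Grp.mem_smul_conj, mem2]
      have e2 : MulAut.conj (t : G) • E2 = E1 := by
        ext x
        rw [Cfsg.Agent.Grp.mem_smul_conj, mem2,
          show (t : G)⁻¹ * ((t : G)⁻¹ * x * t) * t = ((t : G) * t)⁻¹ * x * ((t : G) * t) by group]
        exact ⟨fun hx => by
          have := conj_mem_of_le_normalizer hE1n ht2 hx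
          rwa [show (t : G) * t * (((t : G) * t)⁻¹ * x * ((t : G) * t)) * ((t : G) * t)⁻¹ = x by group]
            at this, fun hx => conj_mem_of_le_normalizer' hE1n ht2 hx⟩
      rw [e1, e2, sup_comm]
    rcases hdec h h' with h1 | h1
    · exact hH1sup h h1
    · simpa using Subgroup.mul_mem _ ht' (hH1sup _ h1)
  have hne : E1 ≠ E := fun h => by
    have hmem : (t : G) * a0 * (t : G)⁻¹ ∈ E2 := (mem2 _).mpr (by
      rw [show (t : G)⁻¹ * ((t : G) * a0 * (t : G)⁻¹) * t = a0 by group]; exact hCE1 ha0C)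
    rcases hh.sym.center _ (hE2E hmem) (fun b hb => (hcomm b (h.symm ▸ hb) _ hmem).symm) with e | e
    · rw [mul_inv_eq_one, mul_eq_left] at e
      exact ha0ne.1 e
    · exact ha0ne.2 (mul_left_cancel (a := (t : G))
        ((mul_inv_eq_iff_eq_mul.mp e).trans (hh.z_comm htH).symm))
  exact good_of_swap hh ih le_sup_left hH1H hH1n htH ht2 hdec ⟨hE1E, hE1n⟩ (hCE1 hzC) hsup hcomm hne

end Cfsg.Agent.SympExt
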